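import Groth.Agent.FRpushLib.CohLim

/-!
# Coherence of the higher direct images of proper morphisms of formal schemes
-/

set_option autoImplicit false
set_option linter.style.haveILetI false
set_option linter.unusedSectionVars false
set_option maxHeartbeats 800000
set_option synthInstance.maxHeartbeats 80000

universe u

open CategoryTheory CategoryTheory.Limits AlgebraicGeometry TopologicalSpace Opposite FSch
open FModLib (MSec RSec mres rres oK lc LocPres)

noncomputable section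

namespace FRpushLib

variable {X : TopCat.{u}} {O : Sheaf (Opens.grothendieckTopology X) CommRingCat.{u}}

theorem mres_rfl (M : ModSite.Mod O) {W : Opens X} (s : MSec M W) : mres M (le_refl W) s = s :=
  congr($(M.val.presheaf.map_id (op W)) s)

/-- Finite sections over a Noetherian ring have finitely many generators and relations. -/
theorem exists_gen_rel (M : ModSite.Mod O) (W : Opens X) [IsNoetherianRing (RSec O W)]
    [Module.Finite (RSec O W) (MSec M W)] :
    ∃ (ι κ : Type u) (_ : Fintype ι) (_ : Fintype κ) (e : ι → MSec M W) (r : κ → ι → RSec O W),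
      (∀ m, ∃ a : ι → RSec O W, lc M le_rfl e a = m) ∧ (∀ j, lc M le_rfl e (r j) = 0) ∧
      ∀ a : ι → RSec O W, lc M le_rfl e a = 0 → ∃ w : κ → RSec O W, ∀ i, a i = ∑ j, w j * r j i := by
  classical
  obtain ⟨n, e, he⟩ := Submodule.fg_iff_exists_fin_generating_family.1 (Module.Finite.fg_top (R := RSec O W) (M := MSec M W))
  let e' : ULift.{u} (Fin n) → MSec M W := fun i => e i.down
  let u : (ULift.{u} (Fin n) → RSec O W) →ₗ[RSec O W] MSec M W := Fintype.linearCombination (RSec O W) e'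
  have hlc : ∀ a, lc M le_rfl e' a = u a := fun a =>
    (Finset.sum_congr rfl fun i _ => congrArg (fun z => a i • z) (mres_rfl M (e' i))).trans
      (Fintype.linearCombination_apply _ _ a).symm
  obtain ⟨m, r, hr⟩ := Submodule.fg_iff_exists_fin_generating_family.1
    (IsNoetherian.noetherian (LinearMap.ker u))
  refine ⟨ULift.{u} (Fin n), ULift.{u} (Fin m), inferInstance, inferInstance, e', fun j => r j.down,
    fun x => ?_, fun j => ?_, fun a ha => ?_⟩
  · have hx : x ∈ Submodule.span (RSec O W) (Set.range e) := by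
      rw [he]
      exact Submodule.mem_top
    obtain ⟨c, hc⟩ := (Submodule.mem_span_range_iff_exists_fun _).1 hx
    refine ⟨fun i => c i.down, (hlc _).trans ((Fintype.linearCombination_apply _ _ _).trans (Eq.trans ?_ hc))⟩
    exact Fintype.sum_equiv Equiv.ulift _ (fun i => c i • e i) fun _ => rfl
  · exact (hlc _).trans (LinearMap.mem_ker.1 (hr ▸ Submodule.subset_span ⟨j.down, rfl⟩ : r j.down ∈ LinearMap.ker u))
  · have hmem : a ∈ LinearMap.ker u := (hlc a).symm.trans ha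
    obtain ⟨w, hw⟩ := (Submodule.mem_span_range_iff_exists_fun _).1 (hr.symm ▸ hmem)
    refine ⟨fun j => w j.down, fun i => ?_⟩
    rw [← hw, Finset.sum_apply]
    exact (Fintype.sum_equiv Equiv.ulift _ (fun j => w j * r j i) fun _ => rfl).symm

variable {𝔛 𝔜 : Sys.{u}} {φ : 𝔛 ⟶ 𝔜} {hloc : 𝔛.IsLocNoethFormal} {h𝔜 : 𝔜.IsLocNoethFormal}
  [HasInjectiveResolutions (ModF 𝔛 hloc.1)] {𝔉 : ModF 𝔛 hloc.1}

/-- **Higher direct images of coherent modules under proper morphisms are coherent.** -/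
theorem isCohF_rpush (hφ : IsProperHom φ) (h𝔉 : IsCohF 𝔛 hloc.1 𝔉) (q : ℕ) :
    IsCohF 𝔜 h𝔜.1 ((RpushF φ hloc.1 h𝔜.1 q).obj 𝔉) := by
  obtain ⟨θ, -⟩ := exists_iso_limit (q := q) h𝔉 (levAc hloc h𝔜 hφ 𝔉 h𝔉) (levStable φ hloc h𝔜 hφ 𝔉 h𝔉)
  refine FModLib.isFP_of_locPres fun p => ?_
  obtain ⟨W, hW, hpW, -⟩ := Opens.isBasis_iff_nbhd.mp (𝔜.X 0).isBasis_affineOpens (U := ⊤) (x := p) trivial
  obtain ⟨I, hN, hI, hfin, d, hd⟩ := finite_and_bound_sec h𝔜 hW φ hloc hφ 𝔉 h𝔉 q
  obtain ⟨ι, κ, _, _, e, r, he, hrel, hr⟩ :=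
    exists_gen_rel (limit (Functor.ofOpSequence (X := rG φ hloc h𝔜.1 𝔉 q) (rT φ hloc h𝔜.1 𝔉 q))) W
  have key : LocPres (limit (Functor.ofOpSequence (X := rG φ hloc h𝔜.1 𝔉 q) (rT φ hloc h𝔜.1 𝔉 q))) W e r := ?_
  exact ⟨W, ι, κ, inferInstance, inferInstance, _, r, hpW, FCohLib.locPres_of_iso θ.symm key⟩
  exact locPres_lim h𝔜 (rT φ hloc h𝔜.1 𝔉 q) (fun k => exists_levelIso (h𝔜 := h𝔜) q hφ h𝔉 k) hW
    (stable_secT (h𝔜 := h𝔜) q hφ h𝔉 hW) hI hd e he r hrel hr

end FRpushLib

end
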