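import Groth.Agent.FRpushLib.Lim
import Groth.Agent.RpushLib.Ab
import Groth.Agent.RpushLib.Comp
import Groth.Agent.FComplLib.Levels
import Groth.Agent.FModLib.Formal

/-!
# Higher direct images from a level are acyclic on affine opens
-/

set_option autoImplicit false
set_option linter.style.haveILetI false
set_option maxHeartbeats 800000
set_option synthInstance.maxHeartbeats 80000

universe u

open CategoryTheory CategoryTheory.Limits AlgebraicGeometry TopologicalSpace Opposite FSch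
open QCohLib (AbSh HU pf toAbF)

noncomputable section

attribute [local instance] HasDerivedCategory.standard

namespace FRpushLib

variable {X Y : TopCat.{u}}

/-- The augmentation, as a map of complexes. -/
def Res.single {F : AbSh X} (R : Res F) : (CochainComplex.single₀ (AbSh X)).obj F ⟶ R.K :=
  (CochainComplex.fromSingle₀Equiv _ _).symm ⟨R.ι, R.comp⟩

instance Res.quasiIso_single {F : AbSh X} (R : Res F) : QuasiIso R.single := ⟨fun n => by
  cases n with
  | zero =>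
    rw [CochainComplex.quasiIsoAt₀_iff, ShortComplex.quasiIso_iff_of_zeros]
    · have := R.mono
      refine (ShortComplex.exact_and_mono_f_iff_of_iso ?_).2 ⟨R.exact₀, this⟩
      exact ShortComplex.isoMk (Iso.refl _) (Iso.refl _) (Iso.refl _)
        ((Category.id_comp _).trans (Category.comp_id _).symm)
        ((Category.id_comp _).trans (Category.comp_id _).symm)
    · rfl
    · rfl
    · exact R.K.shape _ _ (by simp)
  | succ n =>
    rw [quasiIsoAt_iff_exactAt]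
    · rw [HomologicalComplex.exactAt_iff' _ n (n + 1) (n + 2) (by simp) (by simp)]
      exact R.exact n
    · apply CochainComplex.exactAt_succ_single_obj⟩

theorem preservesFiniteLimits_pf (g : X ⟶ Y) : PreservesFiniteLimits (pf g) :=
  have : PreservesLimitsOfSize.{u, u} (pf g) :=
    (TopCat.Sheaf.pullbackPushforwardAdjunction AddCommGrpCat.{u} g).rightAdjoint_preservesLimits
  PreservesLimitsOfSize.preservesFiniteLimits _

/-- **Two resolutions give the same higher direct images.** -/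
theorem nonempty_pf_homology_iso (g : X ⟶ Y) {F : AbSh X} (R R' : Res F) (j : ℕ) :
    Nonempty ((((pf g).mapHomologicalComplex _).obj R.K).homology j ≅
      (((pf g).mapHomologicalComplex _).obj R'.K).homology j) := by
  haveI := preservesFiniteLimits_pf g
  have key : ∀ S : Res F, Nonempty (((pf g).rightDerived j).obj F ≅
      (((pf g).mapHomologicalComplex _).obj S.K).homology j) := fun S =>
    RpushLib.nonempty_rightDerived_iso_of_acyclic (pf g) S.K S.single (fun n => by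
      rw [SpSeqLib.isSAcyclic_iff]
      intro p hp
      exact QCohLib.isZero_rightDerived (f := g) (B := Set.univ)
        (Opens.isBasis_iff_nbhd.mpr fun {U x} hx => ⟨U, trivial, hx, le_rfl⟩) (d := 0)
        (fun V _ m _ => S.ac n m _) hp) j
  obtain ⟨e⟩ := key R
  obtain ⟨e'⟩ := key R'
  exact ⟨e.symm ≪≫ e'⟩

/-- Direct images along equal maps. -/
def pfEqIso {g g' : X ⟶ Y} (h : g = g') : pf g ≅ pf g' := eqToIso (congrArg pf h)

theorem preservesHomology_pf_of_isIso (g : X ⟶ Y) [IsIso g] : (pf g).PreservesHomology :=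
  ((Functor.exact_tfae (pf g)).out 0 2 rfl rfl).mp fun S hS => FModLib.shortExact_pf_of_isIso g hS

theorem subsingleton_HU_pf_affine {𝔜 : Sys.{u}} (h : 𝔜.IsFormal) (k : ℕ) (N : (𝔜.X k).Modules) [Coh.IsQCoh N]
    {W : (𝔜.X 0).Opens} (hW : IsAffineOpen W) (m : ℕ) :
    Subsingleton (HU ((pf (𝔜.gInv h k)).obj ((toAbF (𝔜.X k)).obj N)) (m + 1) W) := by
  have hac : QCohLib.AcyclicAbove (𝔜.gInv h k) (QCohLib.affSet (𝔜.X 0)) 0
      ((toAbF (𝔜.X k)).obj N) := fun V hV n _ =>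
    QCohLib.subsingleton_HU_affine N n (FModLib.isAffineOpen_lvU h hV k)
  obtain ⟨e⟩ := QCohLib.nonempty_pfEquiv QCohLib.isBasis_affSet (m + 1) _ hac W
  have := QCohLib.subsingleton_HU_affine N m (FModLib.isAffineOpen_lvU h hW k)
  exact @Equiv.subsingleton _ _ e.toEquiv this

variable {𝔛 𝔜 : Sys.{u}} (φ : 𝔛 ⟶ 𝔜) (h𝔛 : 𝔛.IsFormal) (h𝔜 : 𝔜.IsFormal) (k : ℕ)

/-- A resolution of the direct image of a module of a level. -/
def levRes [HasInjectiveResolutions (𝔛.X k).Modules] (G : (𝔛.X k).Modules) :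
    Res ((toAbS (𝔛.Osh h𝔛)).obj ((levelMor 𝔛 h𝔛 k).push.obj G)) :=
  let R : Res ((toAbS (𝔛.X k).sheaf).obj G) := Res.ofInjective (injectiveResolution G)
  haveI := preservesHomology_pf_of_isIso (𝔛.gInv h𝔛 k)
  haveI := preservesFiniteLimits_pf (𝔛.gInv h𝔛 k)
  { K := ((pf (𝔛.gInv h𝔛 k)).mapHomologicalComplex _).obj R.K
    ι := (pf (𝔛.gInv h𝔛 k)).map R.ι
    comp := ((pf (𝔛.gInv h𝔛 k)).map_comp _ _).symm.trans
      ((congrArg (pf (𝔛.gInv h𝔛 k)).map R.comp).trans ((pf (𝔛.gInv h𝔛 k)).map_zero _ _))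
    mono := @Functor.map_mono _ _ _ _ (pf (𝔛.gInv h𝔛 k)) inferInstance _ _ R.ι R.mono
    exact₀ := R.exact₀.map (pf (𝔛.gInv h𝔛 k))
    exact := fun n => (R.exact n).map (pf (𝔛.gInv h𝔛 k))
    ac := fun n m U => subsingleton_HU_push_injective (𝔛.gInv h𝔛 k) (𝔛.OshProj h𝔛 k)
      ((injectiveResolution G).cocomplex.X n) m U }

variable [HasInjectiveResolutions (ModF 𝔛 h𝔛)]

/-- **The higher direct image from a level, as an abelian sheaf.** -/
theorem nonempty_toAb_rpush_level_iso (G : (𝔛.X k).Modules) (j : ℕ) :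
    Nonempty ((toAbS (𝔜.Osh h𝔜)).obj ((RpushF φ h𝔛 h𝔜 j).obj ((levelMor 𝔛 h𝔛 k).push.obj G)) ≅
      (pf (𝔜.gInv h𝔜 k)).obj ((toAbF (𝔜.X k)).obj ((Coh.Rpush ((φ : Hom 𝔛 𝔜).app k) j).obj G))) := by
  let g := ((φ : Hom 𝔛 𝔜).app 0).base
  let fk := (φ : Hom 𝔛 𝔜).app k
  let N := (levelMor 𝔛 h𝔛 k).push.obj G
  let R1 := resOf (OX := 𝔛.Osh h𝔛) N
  let R2 := levRes h𝔛 k G
  let J := (toAbF (𝔛.X k)).mapHomologicalComplex _ |>.obj (injectiveResolution G).cocomplex
  obtain ⟨e12⟩ := nonempty_pf_homology_iso g R1 R2 j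
  let a : pushK g (Hom.sharp φ h𝔛 h𝔜) N ≅ ((pf g).mapHomologicalComplex _).obj R1.K :=
    HomologicalComplex.Hom.isoOfComponents (fun _ => Iso.refl _) (fun i i' _ => by
      refine (Category.id_comp _).trans (Eq.trans ?_ (Category.comp_id _).symm)
      rfl)
  let E : pf (𝔛.gInv h𝔛 k) ⋙ pf g ≅ pf fk.base ⋙ pf (𝔜.gInv h𝔜 k) :=
    pfEqIso (Hom.base_gInv φ h𝔛 h𝔜 k).symm
  haveI := preservesHomology_pf_of_isIso (𝔜.gInv h𝔜 k)
  let b : ((pf g).mapHomologicalComplex _).obj R2.K ≅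
      ((pf (𝔜.gInv h𝔜 k)).mapHomologicalComplex _).obj (((pf fk.base).mapHomologicalComplex _).obj J) :=
    HomologicalComplex.Hom.isoOfComponents (fun i => E.app (J.X i)) (fun i i' _ => (E.hom.naturality (J.d i i')).symm)
  let c := (((pf fk.base).mapHomologicalComplex _).obj J).sc j |>.mapHomologyIso (pf (𝔜.gInv h𝔜 k))
  let I := injectiveResolution G
  let d : (((pf fk.base).mapHomologicalComplex _).obj J).homology j ≅
      (toAbF (𝔜.X k)).obj ((Coh.Rpush fk j).obj G) :=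
    (HomologicalComplex.homologyMapIso (RpushLib.toAbPushIso fk I.cocomplex) j).symm ≪≫
      ((RpushLib.pushCx fk I.cocomplex).sc j).mapHomologyIso (toAbF (𝔜.X k)) ≪≫
      (toAbF (𝔜.X k)).mapIso (RpushLib.rpushIso fk I j).symm
  exact ⟨(psi g (Hom.sharp φ h𝔛 h𝔜) j N).symm ≪≫ HomologicalComplex.homologyMapIso a j ≪≫ e12 ≪≫
    HomologicalComplex.homologyMapIso b j ≪≫ c ≪≫ (pf (𝔜.gInv h𝔜 k)).mapIso d⟩

variable {φ} in
/-- **The lower higher direct images of the levels are acyclic on affines.** -/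
theorem levAc (hloc : 𝔛.IsLocNoethFormal) [HasInjectiveResolutions (ModF 𝔛 hloc.1)] (h𝔜' : 𝔜.IsLocNoethFormal)
    (hf : IsProperHom φ) (𝔉 : ModF 𝔛 hloc.1) (h𝔉 : IsCohF 𝔛 hloc.1 𝔉) :
    LevAc φ hloc h𝔜'.1 𝔉 := by
  intro W hW k j m
  haveI := hf.2
  haveI : IsProper ((φ : Hom 𝔛 𝔜).app k) := FComplLib.isProper_app φ h𝔜' hf.1 k
  haveI : Coh.IsQCoh ((levelMor 𝔛 hloc.1 k).pull.obj 𝔉) := (FModLib.isCoh_lev hloc.1 𝔉 h𝔉 k).1
  obtain ⟨e⟩ := nonempty_toAb_rpush_level_iso φ hloc.1 h𝔜'.1 k ((levelMor 𝔛 hloc.1 k).pull.obj 𝔉) j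
  haveI : Coh.IsQCoh ((Coh.Rpush ((φ : Hom 𝔛 𝔜).app k) j).obj ((levelMor 𝔛 hloc.1 k).pull.obj 𝔉)) :=
    RpushLib.isQCoh_Rpush _ _ j
  have := subsingleton_HU_pf_affine h𝔜'.1 k ((Coh.Rpush ((φ : Hom 𝔛 𝔜).app k) j).obj ((levelMor 𝔛 hloc.1 k).pull.obj 𝔉)) hW m
  exact @QCohLib.subsingleton_of_iso _ _ _ e.symm _ _ this

end FRpushLib
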