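import Groth.Agent.FRpushLib.Theta
import Groth.Agent.FModLib.LimTower
import Groth.Agent.FModLib.MilnorLim
import Groth.Agent.FCohLib.PushCompl

/-!
# Higher direct images as limits over the levels
-/

set_option autoImplicit false
set_option linter.style.haveILetI false
set_option maxHeartbeats 800000

universe u

open CategoryTheory CategoryTheory.Limits AlgebraicGeometry TopologicalSpace Opposite FSch CategoryTheory.Abelian
open FModLib (MSec towG towT towP)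

noncomputable section

namespace FRpushLib

section Tower

variable {X : TopCat.{u}} {O : Sheaf (Opens.grothendieckTopology X) CommRingCat.{u}} (G : ℕ → ModSite.Mod O)
  (t : ∀ k, G (k + 1) ⟶ G k)

/-- Sections of a limit of a tower form the limit. -/
def towSecLimit (V : Opens X) :
    IsLimit ((SheafOfModules.evaluation (ModSite.ringSh O) (op V)).mapCone
      (limit.cone (Functor.ofOpSequence (X := G) t))) :=
  isLimitOfPreserves _ (limit.isLimit _)

theorem towSec_ext {V : Opens X} {x y : MSec (limit (Functor.ofOpSequence (X := G) t)) V}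
    (hxy : ∀ k, (limit.π (Functor.ofOpSequence (X := G) t) (op k)).val.app (op V) x =
      (limit.π (Functor.ofOpSequence (X := G) t) (op k)).val.app (op V) y) : x = y :=
  Concrete.isLimit_ext _ (towSecLimit G t V) x y fun ⟨k⟩ => hxy k

theorem towSec_succ {V : Opens X} (x : MSec (limit (Functor.ofOpSequence (X := G) t)) V) (k : ℕ) :
    (t k).val.app (op V) ((limit.π (Functor.ofOpSequence (X := G) t) (op (k + 1))).val.app (op V) x) =
      (limit.π (Functor.ofOpSequence (X := G) t) (op k)).val.app (op V) x := by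
  have h := limit.w (Functor.ofOpSequence (X := G) t) (homOfLE (Nat.le_succ k)).op
  rw [Functor.ofOpSequence_map_homOfLE_succ] at h
  exact congr($(congrArg (fun a : limit (Functor.ofOpSequence (X := G) t) ⟶ G k => a.val.app (op V)) h) x)

theorem exists_towSec {V : Opens X} (s : ∀ k, MSec (G k) V) (hs : ∀ k, (t k).val.app (op V) (s (k + 1)) = s k) :
    ∃ x : MSec (limit (Functor.ofOpSequence (X := G) t)) V,
      ∀ k, (limit.π (Functor.ofOpSequence (X := G) t) (op k)).val.app (op V) x = s k := by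
  let D : ℕᵒᵖ ⥤ _ := Functor.ofOpSequence (X := G) t ⋙ SheafOfModules.evaluation (ModSite.ringSh O) (op V)
  have hst : ∀ k (m : D.obj (op (k + 1))), D.map (homOfLE (Nat.le_succ k)).op m = (t k).val.app (op V) m := fun k m =>
    congr($(congrArg (fun a : G (k + 1) ⟶ G k => a.val.app (op V))
      (Functor.ofOpSequence_map_homOfLE_succ t k)) m)
  have key : ∀ d n, D.map (homOfLE (Nat.le_add_right n d)).op (s (n + d)) = s n := by
    intro d
    induction d with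
    | zero =>
      intro n
      exact congr($(D.map_id (op n)) (s n))
    | succ d ih =>
      intro n
      have e : D.map (homOfLE (Nat.le_add_right n (d + 1))).op =
          D.map (homOfLE (Nat.le_succ (n + d))).op ≫ D.map (homOfLE (Nat.le_add_right n d)).op :=
        (congrArg D.map (Subsingleton.elim _ _)).trans (D.map_comp _ _)
      refine (congr($e (s (n + d + 1)))).trans ?_
      refine (congrArg (D.map (homOfLE (Nat.le_add_right n d)).op) ?_).trans (ih n)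
      exact (hst (n + d) _).trans (hs (n + d))
  let σ : (D ⋙ forget _).sections := ⟨fun n => s n.unop, fun {m n} f => by
    obtain ⟨d, hd⟩ := Nat.le.dest (leOfHom f.unop)
    obtain ⟨m⟩ := m
    obtain ⟨n⟩ := n
    obtain rfl : n + d = m := hd
    exact (congrArg (fun p => D.map p (s (n + d))) (Subsingleton.elim f _)).trans (key d n)⟩
  let hc := isLimitOfPreserves (forget _) (towSecLimit G t V)
  exact ⟨(Types.isLimitEquivSections hc).symm σ, fun n => Types.isLimitEquivSections_symm_apply hc σ (op n)⟩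

end Tower

variable {𝔛 𝔜 : Sys.{u}} (φ : 𝔛 ⟶ 𝔜) (hloc : 𝔛.IsLocNoethFormal) (h𝔜 : 𝔜.IsFormal)
  [HasInjectiveResolutions (ModF 𝔛 hloc.1)] (𝔉 : ModF 𝔛 hloc.1) (q : ℕ)

/-- The comparison for the morphism. -/
abbrev th (M : ModF 𝔛 hloc.1) (W : (𝔜.X 0).Opens) :=
  theta ((φ : Hom 𝔛 𝔜).app 0).base (Hom.sharp φ hloc.1 h𝔜) q M W

/-- The higher direct images of the levels. -/
abbrev rG (k : ℕ) : ModF 𝔜 h𝔜 :=
  (RpushF φ hloc.1 h𝔜 q).obj ((levelMor 𝔛 hloc.1 k).push.obj ((levelMor 𝔛 hloc.1 k).pull.obj 𝔉))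

/-- Their transition maps. -/
abbrev rT (k : ℕ) : rG φ hloc h𝔜 𝔉 q (k + 1) ⟶ rG φ hloc h𝔜 𝔉 q k :=
  (RpushF φ hloc.1 h𝔜 q).map (levelTrans 𝔛 hloc.1 𝔉 k)

/-- The lower higher direct images of the levels are acyclic on affines. -/
def LevAc : Prop :=
  ∀ (W : (𝔜.X 0).Opens), IsAffineOpen W → ∀ (k j m : ℕ),
    Subsingleton (QCohLib.HU ((toAbS (𝔜.Osh h𝔜)).obj
      ((RpushF φ hloc.1 h𝔜 j).obj ((levelMor 𝔛 hloc.1 k).push.obj ((levelMor 𝔛 hloc.1 k).pull.obj 𝔉)))) (m + 1) W)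

/-- The cohomology of the levels over the preimages of affines stabilises. -/
def LevStable : Prop :=
  ∀ (W : (𝔜.X 0).Opens), IsAffineOpen W → ∀ n : ℕ,
    FModLib.Stable (M := fun k => Ext (QCohLib.zsh (((φ : Hom 𝔛 𝔜).app 0) ⁻¹ᵁ W)) (towG hloc 𝔉 k) n)
      (FModLib.tE (G := towG hloc 𝔉) (t := towT hloc 𝔉) (QCohLib.zsh (((φ : Hom 𝔛 𝔜).app 0) ⁻¹ᵁ W)) n)

variable {φ hloc h𝔜 𝔉 q}

/-- **The higher direct image is the limit over the levels.** -/
theorem exists_iso_limit (h𝔉 : IsCohF 𝔛 hloc.1 𝔉) (hac : LevAc φ hloc h𝔜 𝔉) (hst : LevStable φ hloc 𝔉) :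
    ∃ e : (RpushF φ hloc.1 h𝔜 q).obj 𝔉 ≅ limit (Functor.ofOpSequence (X := rG φ hloc h𝔜 𝔉 q) (rT φ hloc h𝔜 𝔉 q)),
      ∀ k : ℕ, e.hom ≫ limit.π (Functor.ofOpSequence (X := rG φ hloc h𝔜 𝔉 q) (rT φ hloc h𝔜 𝔉 q)) (op k) =
        (RpushF φ hloc.1 h𝔜 q).map ((levelMor 𝔛 hloc.1 k).adj.unit.app 𝔉) := by
  let R := RpushF φ hloc.1 h𝔜 q
  let c : Cone (Functor.ofOpSequence (X := rG φ hloc h𝔜 𝔉 q) (rT φ hloc h𝔜 𝔉 q)) :=
    { pt := R.obj 𝔉
      π := NatTrans.ofOpSequence (fun k => R.map ((levelMor 𝔛 hloc.1 k).adj.unit.app 𝔉)) fun k => by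
        rw [Functor.ofOpSequence_map_homOfLE_succ]
        exact (Category.id_comp _).trans ((congrArg R.map (unit_levelTrans 𝔛 hloc.1 𝔉 k).symm).trans (R.map_comp _ _)) }
  let ψ := limit.lift _ c
  have hψ : ∀ k, ψ ≫ limit.π (Functor.ofOpSequence (X := rG φ hloc h𝔜 𝔉 q) (rT φ hloc h𝔜 𝔉 q)) (op k) =
      R.map ((levelMor 𝔛 hloc.1 k).adj.unit.app 𝔉) :=
    fun k => limit.lift_π c (op k)
  have hb : ∀ (W : (𝔜.X 0).Opens), IsAffineOpen W → ∀ k,
      Function.Bijective (th φ hloc h𝔜 q ((levelMor 𝔛 hloc.1 k).push.obj ((levelMor 𝔛 hloc.1 k).pull.obj 𝔉)) W) :=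
    fun W hW k => theta_bijective _ _ q _ W fun j _ m => hac W hW k j m
  have hlim := fun (W : (𝔜.X 0).Opens) (hW : IsAffineOpen W) =>
    FModLib.ext_lim_bijective (FModLib.towP_towT hloc 𝔉) (FModLib.bTower hloc 𝔉 h𝔉)
      (QCohLib.zsh (((φ : Hom 𝔛 𝔜).app 0) ⁻¹ᵁ W)) (fun n => hst W hW n) q
  have hcomp : ∀ (W : (𝔜.X 0).Opens) (x : QCohLib.HU ((toAbS (𝔛.Osh hloc.1)).obj 𝔉) q (((φ : Hom 𝔛 𝔜).app 0) ⁻¹ᵁ W))
      (k : ℕ), (limit.π (Functor.ofOpSequence (X := rG φ hloc h𝔜 𝔉 q) (rT φ hloc h𝔜 𝔉 q)) (op k)).val.app (op W)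
        (ψ.val.app (op W) (show MSec (R.obj 𝔉) W from th φ hloc h𝔜 q 𝔉 W x)) =
      th φ hloc h𝔜 q _ W (x.comp (Ext.mk₀ (towP hloc 𝔉 k)) (add_zero q)) := fun W x k =>
    (congr($(congrArg (fun a : R.obj 𝔉 ⟶ rG φ hloc h𝔜 𝔉 q k => a.val.app (op W)) (hψ k))
      (show MSec (R.obj 𝔉) W from th φ hloc h𝔜 q 𝔉 W x))).trans
      (theta_natural _ _ q 𝔉 W ((levelMor 𝔛 hloc.1 k).adj.unit.app 𝔉) x)
  have hB : Opens.IsBasis {W : (𝔜.X 0).Opens | IsAffineOpen W} := (𝔜.X 0).isBasis_affineOpens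
  have hinj : ∀ (V : (𝔜.X 0).Opens) (σ : MSec (R.obj 𝔉) V), ψ.val.app (op V) σ = 0 → σ = 0 := by
    intro V σ hσ
    refine FCohLib.eq_zero_of_points (R.obj 𝔉) σ fun p hp => ?_
    obtain ⟨W, hW, hWV, x, hpW, hx⟩ := exists_local_theta _ _ q 𝔉 hB σ hp
    refine ⟨W, hWV, hpW, ?_⟩
    suffices hx0 : x = 0 from hx.symm.trans (by rw [hx0]; exact map_zero _)
    refine (hlim W hW).1 x fun k => (hb W hW k).1 (((hcomp W x k).symm.trans ?_).trans (map_zero _).symm)
    refine (congrArg (fun z => (limit.π (Functor.ofOpSequence (X := rG φ hloc h𝔜 𝔉 q) (rT φ hloc h𝔜 𝔉 q)) (op k)).val.app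
      (op W) (ψ.val.app (op W) z)) (show (show MSec (R.obj 𝔉) W from th φ hloc h𝔜 q 𝔉 W x) =
        FModLib.mres (R.obj 𝔉) hWV σ from hx)).trans ?_
    refine (congrArg _ ((PresheafOfModules.naturality_apply ψ.val (homOfLE hWV).op σ).trans
      ((congrArg _ hσ).trans (map_zero _)))).trans ?_
    exact map_zero _
  haveI : IsIso ψ := FCohLib.isIso_of_bijective_basis ψ fun U p hp => by
    obtain ⟨W, hW, hpW, hWU⟩ := Opens.isBasis_iff_nbhd.mp hB hp
    refine ⟨W, hWU, hpW, (injective_iff_map_eq_zero _).2 (hinj W), fun τ => ?_⟩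
    choose x hx using fun k => (hb W hW k).2
      ((limit.π (Functor.ofOpSequence (X := rG φ hloc h𝔜 𝔉 q) (rT φ hloc h𝔜 𝔉 q)) (op k)).val.app (op W) τ)
    obtain ⟨y, hy⟩ := (hlim W hW).2 x fun k => (hb W hW k).1 <| by
      refine (theta_natural _ _ q _ W (levelTrans 𝔛 hloc.1 𝔉 k) (x (k + 1))).symm.trans ?_
      refine (congrArg ((rT φ hloc h𝔜 𝔉 q k).val.app (op W)) (hx (k + 1))).trans ?_
      exact (towSec_succ _ _ τ k).trans (hx k).symm
    refine ⟨th φ hloc h𝔜 q 𝔉 W y, towSec_ext _ _ fun k => ?_⟩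
    exact (hcomp W y k).trans ((congrArg (th φ hloc h𝔜 q _ W) (hy k)).trans (hx k))
  exact ⟨asIso ψ, hψ⟩

end FRpushLib
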