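import Groth.Agent.FRpushLib.Res
import Groth.Agent.CohLib.InjModule
import Groth.Agent.CohLib.ModExtH
import Groth.Agent.CohLib.Push
import Groth.Agent.ModSiteLib.Grothendieck
import Groth.Prelude.Def_ModSite

/-!
# Cohomology of preimages against higher direct images of modules
-/

set_option autoImplicit false
set_option linter.style.haveILetI false
set_option linter.unusedSectionVars false
set_option maxHeartbeats 800000
set_option synthInstance.maxHeartbeats 80000

universe u

open CategoryTheory CategoryTheory.Limits TopologicalSpace Opposite CategoryTheory.Abelian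
open QCohLib (AbSh HU)

noncomputable section

namespace FRpushLib

variable {X : TopCat.{u}} {O : Sheaf (Opens.grothendieckTopology X) CommRingCat.{u}}

/-- Modules as abelian sheaves. -/
abbrev toAbS (O : Sheaf (Opens.grothendieckTopology X) CommRingCat.{u}) : ModSite.Mod O ⥤ AbSh X :=
  SheafOfModules.toSheaf (ModSite.ringSh O)

theorem subsingleton_HU_toAbS_injective (I : ModSite.Mod O) [Injective I] (m : ℕ) (U : Opens X) :
    Subsingleton (HU ((toAbS O).obj I) (m + 1) U) :=
  CohLib.subsingleton_HU _ (CohLib.isTotallyAcyclic_toSheaf (ModSite.ringSh O) I) U m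

theorem preservesHomology_toAbS : (toAbS O).PreservesHomology := by
  haveI : PreservesFiniteLimits (toAbS O) := inferInstance
  haveI : PreservesFiniteColimits (toAbS O) := inferInstance
  infer_instance

instance : (toAbS O).PreservesHomology := preservesHomology_toAbS

/-- A resolution of a module gives one of its abelian sheaf. -/
def Res.ofInjective {M : ModSite.Mod O} (I : InjectiveResolution M) : Res ((toAbS O).obj M) where
  K := ((toAbS O).mapHomologicalComplex _).obj I.cocomplex
  ι := (toAbS O).map (I.ι.f 0)
  comp := ((toAbS O).map_comp _ _).symm.trans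
    ((congrArg (toAbS O).map I.ι_f_zero_comp_complex_d).trans ((toAbS O).map_zero _ _))
  mono := @Functor.map_mono _ _ _ _ (toAbS O) inferInstance _ _ (I.ι.f 0) (mono_of_isLimit_fork I.isLimitKernelFork)
  exact₀ := I.exact₀.map (toAbS O)
  exact n := (I.exact_succ n).map (toAbS O)
  ac n m U := subsingleton_HU_toAbS_injective _ m U

/-- A map of injective resolutions gives one of resolutions. -/
def Res.Hom.ofInjective {M N : ModSite.Mod O} (f : M ⟶ N) (I : InjectiveResolution M) (J : InjectiveResolution N) :
    Res.Hom (Res.ofInjective I) (Res.ofInjective J) ((toAbS O).map f) where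
  φ := ((toAbS O).mapHomologicalComplex _).map (InjectiveResolution.desc f J I)
  w := ((toAbS O).map_comp _ _).symm.trans
    ((congrArg (toAbS O).map (InjectiveResolution.desc_commutes_zero f J I)).trans ((toAbS O).map_comp _ _))

variable {Y : TopCat.{u}} {OX : Sheaf (Opens.grothendieckTopology X) CommRingCat.{u}}
  {OY : Sheaf (Opens.grothendieckTopology Y) CommRingCat.{u}} (g : X ⟶ Y)
  (s : OY ⟶ ((Opens.map g).sheafPushforwardContinuous CommRingCat.{u} (Opens.grothendieckTopology Y)
    (Opens.grothendieckTopology X)).obj OX)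

/-- The morphism of ringed spaces. -/
abbrev rm : ModSite.RMor OX OY := ModSite.RMor.ofFlat (Opens.map g) s

theorem subsingleton_HU_push_injective (I : ModSite.Mod OX) [Injective I] (m : ℕ) (W : Opens Y) :
    Subsingleton (HU ((toAbS OY).obj ((rm g s).push.obj I)) (m + 1) W) :=
  haveI : PreservesFiniteLimits ((Opens.map g).sheafPullback (Type u) (Opens.grothendieckTopology Y)
    (Opens.grothendieckTopology X)) := (rm g s).exact
  CohLib.subsingleton_HU _ (CohLib.isTotallyAcyclic_push (Opens.grothendieckTopology X)
    (Opens.grothendieckTopology Y) (Opens.map g) (CohLib.isTotallyAcyclic_toSheaf (ModSite.ringSh OX) I)) W m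

variable [HasInjectiveResolutions (ModSite.Mod OX)]

/-- The direct image of the resolution. -/
abbrev pushK (M : ModSite.Mod OX) : CochainComplex (AbSh Y) ℕ :=
  ((toAbS OY).mapHomologicalComplex _).obj
    (((rm g s).push.mapHomologicalComplex _).obj (injectiveResolution M).cocomplex)

variable (q : ℕ)

/-- The higher direct image as a homology sheaf. -/
def psi (M : ModSite.Mod OX) : (pushK g s M).homology q ≅ (toAbS OY).obj (((rm g s).Rpush q).obj M) :=
  ((((rm g s).push.mapHomologicalComplex _).obj (injectiveResolution M).cocomplex).sc q).mapHomologyIso (toAbS OY) ≪≫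
    (toAbS OY).mapIso ((injectiveResolution M).isoRightDerivedObj (rm g s).push q).symm

theorem psi_natural {M N : ModSite.Mod OX} (f : M ⟶ N) :
    (psi g s q M).hom ≫ (toAbS OY).map (((rm g s).Rpush q).map f) =
      HomologicalComplex.homologyMap (((toAbS OY).mapHomologicalComplex _).map
        (((rm g s).push.mapHomologicalComplex _).map
          (InjectiveResolution.desc f (injectiveResolution N) (injectiveResolution M)))) q ≫
        (psi g s q N).hom := by
  let F := (((rm g s).push.mapHomologicalComplex (ComplexShape.up ℕ)).map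
    (InjectiveResolution.desc f (injectiveResolution N) (injectiveResolution M)))
  have h1 := InjectiveResolution.isoRightDerivedObj_inv_naturality f (injectiveResolution M) (injectiveResolution N)
    _ (InjectiveResolution.desc_commutes_zero f _ _) (rm g s).push q
  have h2 := ShortComplex.mapHomologyIso_hom_naturality
    ((HomologicalComplex.shortComplexFunctor _ (ComplexShape.up ℕ) q).map F) (toAbS OY)
  simp only [psi, Iso.trans_hom, Functor.mapIso_hom, Iso.symm_hom, Category.assoc]
  refine (congrArg (fun e => _ ≫ e) (((toAbS OY).map_comp _ _).symm.trans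
    ((congrArg (toAbS OY).map h1).trans ((toAbS OY).map_comp _ _)))).trans ?_
  refine (Category.assoc _ _ _).symm.trans (Eq.trans ?_ (Category.assoc _ _ _))
  exact congrArg (fun e => e ≫ (toAbS OY).map ((injectiveResolution N).isoRightDerivedObj (rm g s).push q).inv) h2.symm

/-- The preimage. -/
abbrev pre (W : Opens Y) : Opens X := (Opens.map g).obj W

variable (M : ModSite.Mod OX) (W : Opens Y)

/-- The resolution used. -/
abbrev resOf : Res ((toAbS OX).obj M) := Res.ofInjective (injectiveResolution M)

theorem exists_cycle_of_zero (z : ((resOf M).Z q).obj.obj (op (pre g W))) :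
    ∃ c : ((pushK g s M).cycles q).obj.obj (op W),
      ((pushK g s M).iCycles q).hom.app (op W) c =
        (show ((pushK g s M).X q).obj.obj (op W) from
          (kernel.ι ((resOf M).K.d q (q + 1))).hom.app (op (pre g W)) z) := by
  let w : ((pushK g s M).X q).obj.obj (op W) := (kernel.ι ((resOf M).K.d q (q + 1))).hom.app (op (pre g W)) z
  have hw : ((pushK g s M).d q (q + 1)).hom.app (op W) w = 0 :=
    congr($(congrArg (fun φ : (resOf M).Z q ⟶ (resOf M).K.X (q + 1) => φ.hom.app (op (pre g W)))
      (kernel.condition ((resOf M).K.d q (q + 1)))) z)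
  have h : QCohLib.zEquiv.symm w ≫ (pushK g s M).d q (q + 1) = 0 := by
    apply QCohLib.zEquiv.injective
    rw [QCohLib.zEquiv_comp, AddEquiv.apply_symm_apply, map_zero]
    exact hw
  refine ⟨QCohLib.zEquiv ((pushK g s M).liftCycles _ (q + 1) (by simp) h), ?_⟩
  rw [← QCohLib.zEquiv_comp, HomologicalComplex.liftCycles_i, AddEquiv.apply_symm_apply]

/-- A cocycle upstairs as a cycle of the direct image. -/
def toCycle : ((resOf M).Z q).obj.obj (op (pre g W)) →+ ((pushK g s M).cycles q).obj.obj (op W) where
  toFun z := (exists_cycle_of_zero g s q M W z).choose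
  map_zero' := app_injective ((pushK g s M).iCycles q) W
    (((exists_cycle_of_zero g s q M W 0).choose_spec.trans (map_zero _)).trans (map_zero _).symm)
  map_add' a b := app_injective ((pushK g s M).iCycles q) W
    (((exists_cycle_of_zero g s q M W (a + b)).choose_spec.trans (map_add _ _ _)).trans
      (((map_add (((pushK g s M).iCycles q).hom.app (op W)).hom _ _).trans
        (congrArg₂ (· + ·) (exists_cycle_of_zero g s q M W a).choose_spec
          (exists_cycle_of_zero g s q M W b).choose_spec))).symm)

theorem iCycles_toCycle (z : ((resOf M).Z q).obj.obj (op (pre g W))) :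
    ((pushK g s M).iCycles q).hom.app (op W) (toCycle g s q M W z) =
      (show ((pushK g s M).X q).obj.obj (op W) from
        (kernel.ι ((resOf M).K.d q (q + 1))).hom.app (op (pre g W)) z) :=
  (exists_cycle_of_zero g s q M W z).choose_spec

theorem toCycle_surjective : Function.Surjective (toCycle g s q M W) := fun c => by
  have h : ((resOf M).K.d q (q + 1)).hom.app (op (pre g W))
      (show ((resOf M).K.X q).obj.obj (op (pre g W)) from ((pushK g s M).iCycles q).hom.app (op W) c) = 0 :=
    congr($(congrArg (fun φ : (pushK g s M).cycles q ⟶ (pushK g s M).X (q + 1) => φ.hom.app (op W))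
      ((pushK g s M).iCycles_d q (q + 1))) c)
  obtain ⟨z, hz⟩ := exists_kernel_sec _ _ h
  exact ⟨z, app_injective ((pushK g s M).iCycles q) W ((iCycles_toCycle g s q M W z).trans hz)⟩

/-- The class of a cocycle as a section of the higher direct image. -/
def piOf : ((resOf M).Z q).obj.obj (op (pre g W)) →+
    ((toAbS OY).obj (((rm g s).Rpush q).obj M)).obj.obj (op W) :=
  (((pushK g s M).homologyπ q ≫ (psi g s q M).hom).hom.app (op W)).hom.comp (toCycle g s q M W)

theorem piOf_eq_zero (z : ((resOf M).Z q).obj.obj (op (pre g W))) (hz : (resOf M).cls (pre g W) q z = 0) :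
    piOf g s q M W z = 0 := by
  match q, z, hz with
  | 0, z, hz =>
    rw [(resOf M).cls_zero_injective (pre g W) (hz.trans (map_zero _).symm), map_zero]
  | k + 1, z, hz =>
    obtain ⟨t, ht⟩ := ((resOf M).cls_succ_eq_zero_iff (pre g W) k z).1 hz
    have h1 : toCycle g s (k + 1) M W z =
        ((pushK g s M).toCycles k (k + 1)).hom.app (op W) (show ((pushK g s M).X k).obj.obj (op W) from t) := by
      refine app_injective ((pushK g s M).iCycles (k + 1)) W ((iCycles_toCycle g s (k + 1) M W z).trans ?_)
      refine Eq.trans ?_ (congr($(congrArg (fun φ : (pushK g s M).X k ⟶ (pushK g s M).X (k + 1) => φ.hom.app (op W))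
        ((pushK g s M).toCycles_i k (k + 1))) (show ((pushK g s M).X k).obj.obj (op W) from t))).symm
      exact ht.symm
    refine (congrArg (((pushK g s M).homologyπ (k + 1) ≫ (psi g s (k + 1) M).hom).hom.app (op W)) h1).trans ?_
    have h2 : (pushK g s M).toCycles k (k + 1) ≫ (pushK g s M).homologyπ (k + 1) ≫ (psi g s (k + 1) M).hom = 0 := by
      rw [← Category.assoc, HomologicalComplex.toCycles_comp_homologyπ, zero_comp]
    exact congr($(congrArg (fun φ : (pushK g s M).X k ⟶ (toAbS OY).obj (((rm g s).Rpush (k + 1)).obj M) =>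
      φ.hom.app (op W)) h2) (show ((pushK g s M).X k).obj.obj (op W) from t))

/-- **Cohomology of the preimage to sections of the higher direct image.** -/
def theta : HU ((toAbS OX).obj M) q (pre g W) →+ ((toAbS OY).obj (((rm g s).Rpush q).obj M)).obj.obj (op W) :=
  ((resOf M).cls (pre g W) q).liftOfRightInverse (Function.surjInv ((resOf M).cls_surjective (pre g W) q))
    (Function.rightInverse_surjInv _) ⟨piOf g s q M W, fun z hz => piOf_eq_zero g s q M W z hz⟩

theorem theta_cls (z : ((resOf M).Z q).obj.obj (op (pre g W))) :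
    theta g s q M W ((resOf M).cls (pre g W) q z) = piOf g s q M W z :=
  AddMonoidHom.liftOfRightInverse_comp_apply _ _ _ _ z

/-- **Naturality.** -/
theorem theta_natural {N : ModSite.Mod OX} (f : M ⟶ N) (x : HU ((toAbS OX).obj M) q (pre g W)) :
    ((toAbS OY).map (((rm g s).Rpush q).map f)).hom.app (op W) (theta g s q M W x) =
      theta g s q N W (x.comp (Ext.mk₀ ((toAbS OX).map f)) (add_zero q)) := by
  obtain ⟨z, rfl⟩ := (resOf M).cls_surjective (pre g W) q x
  let a := Res.Hom.ofInjective f (injectiveResolution M) (injectiveResolution N)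
  rw [a.cls_natural, theta_cls, theta_cls]
  let Φ := ((toAbS OY).mapHomologicalComplex (ComplexShape.up ℕ)).map
        (((rm g s).push.mapHomologicalComplex _).map
          (InjectiveResolution.desc f (injectiveResolution N) (injectiveResolution M)))
  have h1 : ((pushK g s M).homologyπ q ≫ (psi g s q M).hom) ≫ (toAbS OY).map (((rm g s).Rpush q).map f) =
      HomologicalComplex.cyclesMap Φ q ≫ (pushK g s N).homologyπ q ≫ (psi g s q N).hom := by
    rw [Category.assoc, psi_natural, HomologicalComplex.homologyπ_naturality_assoc]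
  refine (congr($(congrArg (fun φ : (pushK g s M).cycles q ⟶ (toAbS OY).obj (((rm g s).Rpush q).obj N) =>
    φ.hom.app (op W)) h1) (toCycle g s q M W z))).trans ?_
  refine congrArg (((pushK g s N).homologyπ q ≫ (psi g s q N).hom).hom.app (op W)) ?_
  refine app_injective ((pushK g s N).iCycles q) W ?_
  refine (congr($(congrArg (fun φ : (pushK g s M).cycles q ⟶ (pushK g s N).X q => φ.hom.app (op W))
    (HomologicalComplex.cyclesMap_i Φ q)) (toCycle g s q M W z))).trans ?_
  refine Eq.trans ?_ (iCycles_toCycle g s q N W _).symm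
  refine (congrArg ((Φ.f q).hom.app (op W)) (iCycles_toCycle g s q M W z)).trans ?_
  have e : a.zMap q ≫ kernel.ι ((resOf N).K.d q (q + 1)) = kernel.ι ((resOf M).K.d q (q + 1)) ≫ a.φ.f q := by simp
  exact (congr($(congrArg (fun φ : (resOf M).Z q ⟶ (resOf N).K.X q => φ.hom.app (op (pre g W))) e) z)).symm

/-- **Sections of higher direct images come locally from cohomology.** -/
theorem exists_local_theta {B : Set (Opens Y)} (hB : Opens.IsBasis B) {V : Opens Y}
    (σ : ((toAbS OY).obj (((rm g s).Rpush q).obj M)).obj.obj (op V)) {p : Y} (hp : p ∈ V) :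
    ∃ W ∈ B, ∃ (hW : W ≤ V) (x : HU ((toAbS OX).obj M) q (pre g W)), p ∈ W ∧
      theta g s q M W x = ((toAbS OY).obj (((rm g s).Rpush q).obj M)).obj.map (homOfLE hW).op σ := by
  let π := (pushK g s M).homologyπ q ≫ (psi g s q M).hom
  haveI : Epi π := epi_comp _ _
  obtain ⟨V₁, hV₁, ⟨c, hc⟩, hpV₁⟩ := (TopCat.Presheaf.isLocallySurjective_iff π.hom).mp
    ((Sheaf.isLocallySurjective_iff_epi' (φ := π)).mpr inferInstance) V σ p hp
  obtain ⟨W, hWB, hpW, hWV₁⟩ := Opens.isBasis_iff_nbhd.mp hB hpV₁
  obtain ⟨z, hz⟩ := toCycle_surjective g s q M W (((pushK g s M).cycles q).obj.map (homOfLE hWV₁).op c)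
  refine ⟨W, hWB, hWV₁.trans hV₁, (resOf M).cls (pre g W) q z, hpW, (theta_cls g s q M W z).trans ?_⟩
  refine (congrArg (π.hom.app (op W)) hz).trans ?_
  refine (congr($(π.hom.naturality (homOfLE hWV₁).op) c)).trans ?_
  refine (congrArg (((toAbS OY).obj (((rm g s).Rpush q).obj M)).obj.map (homOfLE hWV₁).op) hc).trans ?_
  exact ((((toAbS OY).obj (((rm g s).Rpush q).obj M)).obj.map_comp_apply _ _ σ)).symm

/-- **The comparison is bijective where the lower higher direct images are acyclic.** -/
theorem theta_bijective
    (h : ∀ j < q, ∀ m, Subsingleton (HU ((toAbS OY).obj (((rm g s).Rpush j).obj M)) (m + 1) W)) :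
    Function.Bijective (theta g s q M W) := by
  have hK : ∀ j m, Subsingleton (HU ((pushK g s M).X j) (m + 1) W) := fun j m =>
    subsingleton_HU_push_injective g s _ m W
  have hH : ∀ j < q, ∀ m, Subsingleton (HU ((pushK g s M).homology j) (m + 1) W) := fun j hj m =>
    @QCohLib.subsingleton_of_iso _ _ _ (psi g s j M).symm _ _ (h j hj m)
  have hψ : Function.Injective (((psi g s q M).hom).hom.app (op W)) := app_injective _ W
  refine ⟨(injective_iff_map_eq_zero _).mpr fun x hx => ?_, fun σ => ?_⟩
  · obtain ⟨z, rfl⟩ := (resOf M).cls_surjective (pre g W) q x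
    rw [theta_cls] at hx
    have h0 : ((pushK g s M).homologyπ q).hom.app (op W) (toCycle g s q M W z) = 0 :=
      hψ (hx.trans (map_zero _).symm)
    match q, z, h0, hH with
    | 0, z, h0, _ =>
      haveI : IsIso ((pushK g s M).homologyπ 0) :=
        (pushK g s M).isIso_homologyπ 0 0 (by simp) ((pushK g s M).shape _ _ (by simp))
      have h1 : toCycle g s 0 M W z = 0 :=
        app_injective ((pushK g s M).homologyπ 0) W (h0.trans (map_zero _).symm)
      have h2 : z = 0 := app_injective (kernel.ι ((resOf M).K.d 0 1)) (pre g W)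
        ((iCycles_toCycle g s 0 M W z).symm.trans ((congrArg _ h1).trans
          ((map_zero _).trans (map_zero _).symm)))
      rw [h2, map_zero]
    | k + 1, z, h0, hH =>
      obtain ⟨t, ht⟩ := exists_cochain hK hH _ h0
      exact ((resOf M).cls_succ_eq_zero_iff (pre g W) k z).2 ⟨t, ht.trans (iCycles_toCycle g s (k + 1) M W z)⟩
  · obtain ⟨b, hb⟩ := exists_cycle hK hH ((psi g s q M).inv.hom.app (op W) σ)
    obtain ⟨z, rfl⟩ := toCycle_surjective g s q M W b
    refine ⟨(resOf M).cls (pre g W) q z, (theta_cls g s q M W z).trans ?_⟩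
    refine (congrArg ((psi g s q M).hom.hom.app (op W)) hb).trans ?_
    exact congr($(congrArg (fun φ : (toAbS OY).obj (((rm g s).Rpush q).obj M) ⟶
      (toAbS OY).obj (((rm g s).Rpush q).obj M) => φ.hom.app (op W)) (psi g s q M).inv_hom_id) σ)

end FRpushLib
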