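import Groth.Agent.FRpushLib.RestrExt
import Groth.Agent.FRpushLib.Theta
import Groth.Agent.FModLib.LocPres

/-!
# The comparison with cohomology of the preimage is linear
-/

set_option autoImplicit false
set_option linter.style.haveILetI false
set_option linter.unusedSectionVars false
set_option maxHeartbeats 800000
set_option synthInstance.maxHeartbeats 80000

universe u

open CategoryTheory CategoryTheory.Limits TopologicalSpace Opposite AlgebraicGeometry CategoryTheory.Abelian
open QCohLib (AbSh HU zsh h0 restrAb)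
open FModLib (MSec RSec mres rres)

noncomputable section

namespace FRpushLib

section Scal

variable {X Z : Scheme.{u}} (j : Z ⟶ X) [IsOpenImmersion j]
  {O : Sheaf (Opens.grothendieckTopology X.toTopCat) CommRingCat.{u}}
  {U : X.Opens} (hU : U = j ''ᵁ (⊤ : Z.Opens))

theorem image_le_of_eq (V : Z.Opens) (hU : U = j ''ᵁ (⊤ : Z.Opens)) : j ''ᵁ V ≤ U :=
  hU ▸ Scheme.Hom.image_mono j le_top

/-- Multiplication on sections. -/
def scalSec (N : ModSite.Mod O) (r : RSec O U) {V : X.Opens} (h : V ≤ U) : MSec N V →+ MSec N V :=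
  AddMonoidHom.mk' (fun x : MSec N V => rres O h r • x) fun x y => smul_add (rres O h r) x y

theorem scalSec_map (N : ModSite.Mod O) (r : RSec O U) {V V' : X.Opens} (h : V ≤ U) (h' : V' ≤ U) (i : V' ⟶ V)
    (x : MSec N V) : scalSec N r h' (N.val.map i.op x) = N.val.map i.op (scalSec N r h x) := by
  refine Eq.trans ?_ (PresheafOfModules.map_smul N.val i.op (rres O h r) x).symm
  exact congrArg (fun a : RSec O V' => a • (show MSec N V' from N.val.map i.op x))
    ((congr($(congrArg O.obj.map (Subsingleton.elim (homOfLE h').op ((homOfLE h).op ≫ i.op))) r)).trans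
      (O.obj.map_comp_apply (homOfLE h).op i.op r))

/-- Multiplication by a section of the ring, on the restriction. -/
def scal (N : ModSite.Mod O) (r : RSec O U) :
    (restrAb j).obj ((toAbS O).obj N) ⟶ (restrAb j).obj ((toAbS O).obj N) :=
  ⟨{ app := fun V => AddCommGrpCat.ofHom (scalSec N r (image_le_of_eq j V.unop hU))
     naturality := fun V V' i => ConcreteCategory.hom_ext _ _ fun s =>
      scalSec_map N r (image_le_of_eq j V.unop hU) (image_le_of_eq j V'.unop hU) (j.opensFunctor.map i.unop) s }⟩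

theorem scal_natural {N N' : ModSite.Mod O} (f : N ⟶ N') (r : RSec O U) :
    scal j hU N r ≫ (restrAb j).map ((toAbS O).map f) = (restrAb j).map ((toAbS O).map f) ≫ scal j hU N' r :=
  Sheaf.hom_ext (NatTrans.ext (funext fun V => ConcreteCategory.hom_ext _ _ fun s =>
    map_smul (f.val.app (op (j ''ᵁ V.unop))).hom (rres O (image_le_of_eq j V.unop hU) r)
      (show MSec N (j ''ᵁ V.unop) from s)))

theorem map_fac {A B C : AbSh X.toTopCat} {a : A ⟶ B} {b : B ⟶ C} {c : A ⟶ C} (h : a ≫ b = c) :
    (restrAb j).map a ≫ (restrAb j).map b = (restrAb j).map c :=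
  ((restrAb j).map_comp a b).symm.trans (congrArg (restrAb j).map h)

variable {M : ModSite.Mod O} (I : InjectiveResolution M) (r : RSec O U)

/-- The cocycles of the resolution as the underlying sheaves of modules. -/
def zIso (k : ℕ) : (toAbS O).obj (kernel (I.cocomplex.d k (k + 1))) ≅ (Res.ofInjective I).Z k :=
  haveI : PreservesFiniteLimits (toAbS O) := inferInstance
  PreservesKernel.iso (toAbS O) (I.cocomplex.d k (k + 1))

theorem zIso_hom_ι (k : ℕ) :
    (zIso I k).hom ≫ kernel.ι ((Res.ofInjective I).K.d k (k + 1)) =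
      (toAbS O).map (kernel.ι (I.cocomplex.d k (k + 1))) := by
  refine (Iso.eq_inv_comp (zIso I k)).1 ?_
  exact (PreservesKernel.iso_inv_ι (toAbS O) (I.cocomplex.d k (k + 1))).symm

/-- Multiplication on the cocycles. -/
def zScal (k : ℕ) : (restrAb j).obj ((Res.ofInjective I).Z k) ⟶ (restrAb j).obj ((Res.ofInjective I).Z k) :=
  (restrAb j).map (zIso I k).inv ≫ scal j hU (kernel (I.cocomplex.d k (k + 1))) r ≫ (restrAb j).map (zIso I k).hom

theorem zScal_ι (k : ℕ) :
    zScal j hU I r k ≫ (restrAb j).map (kernel.ι ((Res.ofInjective I).K.d k (k + 1))) =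
      (restrAb j).map (kernel.ι ((Res.ofInjective I).K.d k (k + 1))) ≫ scal j hU (I.cocomplex.X k) r := by
  refine (Category.assoc _ _ _).trans ?_
  refine (congrArg (fun e => (restrAb j).map (zIso I k).inv ≫ e) ((Category.assoc _ _ _).trans
    ((congrArg (fun e => scal j hU (kernel (I.cocomplex.d k (k + 1))) r ≫ e) (map_fac j (zIso_hom_ι I k))).trans
      (scal_natural j hU (kernel.ι (I.cocomplex.d k (k + 1))) r)))).trans ?_
  refine (Category.assoc _ _ _).symm.trans (congrArg (fun e => e ≫ scal j hU (I.cocomplex.X k) r) ?_)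
  exact map_fac j ((Iso.inv_comp_eq _).2 (zIso_hom_ι I k).symm)

theorem zScal_g (k : ℕ) :
    scal j hU (I.cocomplex.X k) r ≫ (restrAb j).map ((Res.ofInjective I).cyc k).g =
      (restrAb j).map ((Res.ofInjective I).cyc k).g ≫ zScal j hU I r (k + 1) := by
  haveI : Mono ((restrAb j).map (kernel.ι ((Res.ofInjective I).K.d (k + 1) (k + 2)))) := Functor.map_mono _ _
  refine (cancel_mono ((restrAb j).map (kernel.ι ((Res.ofInjective I).K.d (k + 1) (k + 2))))).1 ?_
  have e : (restrAb j).map ((Res.ofInjective I).cyc k).g ≫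
      (restrAb j).map (kernel.ι ((Res.ofInjective I).K.d (k + 1) (k + 2))) =
      (restrAb j).map ((toAbS O).map (I.cocomplex.d k (k + 1))) := map_fac j (kernel.lift_ι _ _ _)
  refine (Category.assoc _ _ _).trans ((congrArg (fun z => scal j hU (I.cocomplex.X k) r ≫ z) e).trans
    ((scal_natural j hU (I.cocomplex.d k (k + 1)) r).trans ?_))
  refine Eq.trans ?_ ((congrArg (fun z => (restrAb j).map ((Res.ofInjective I).cyc k).g ≫ z)
    (zScal_ι j hU I r (k + 1))).symm.trans (Category.assoc _ _ _).symm)
  exact (congrArg (fun z => z ≫ scal j hU (I.cocomplex.X (k + 1)) r) e).symm.trans (Category.assoc _ _ _)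

theorem zScal_invAug :
    zScal j hU I r 0 ≫ (restrAb j).map (inv (Res.ofInjective I).aug) =
      (restrAb j).map (inv (Res.ofInjective I).aug) ≫ scal j hU M r := by
  have h : scal j hU M r ≫ (restrAb j).map (Res.ofInjective I).aug =
      (restrAb j).map (Res.ofInjective I).aug ≫ zScal j hU I r 0 := by
    haveI : Mono ((restrAb j).map (kernel.ι ((Res.ofInjective I).K.d 0 1))) := Functor.map_mono _ _
    refine (cancel_mono ((restrAb j).map (kernel.ι ((Res.ofInjective I).K.d 0 1)))).1 ?_
    have e : (restrAb j).map (Res.ofInjective I).aug ≫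
        (restrAb j).map (kernel.ι ((Res.ofInjective I).K.d 0 1)) = (restrAb j).map ((toAbS O).map (I.ι.f 0)) :=
      map_fac j (kernel.lift_ι _ _ _)
    refine (Category.assoc _ _ _).trans ((congrArg (fun z => scal j hU M r ≫ z) e).trans
      ((scal_natural j hU (I.ι.f 0) r).trans ?_))
    refine Eq.trans ?_ ((congrArg (fun z => (restrAb j).map (Res.ofInjective I).aug ≫ z)
      (zScal_ι j hU I r 0)).symm.trans (Category.assoc _ _ _).symm)
    exact (congrArg (fun z => z ≫ scal j hU (I.cocomplex.X 0) r) e).symm.trans (Category.assoc _ _ _)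
  rw [Functor.map_inv, IsIso.comp_inv_eq, Category.assoc, h, IsIso.inv_hom_id_assoc]

/-- Classes on an open, to the open subscheme. -/
def restrU (G : AbSh X.toTopCat) (n : ℕ) : HU G n U →+ HU ((restrAb j).obj G) n (⊤ : Z.Opens) :=
  (restrHU j G n).comp ((Ext.mk₀ (eqToHom (congrArg zsh hU.symm))).precomp _ (zero_add n))

theorem restrU_rfl (G : AbSh X.toTopCat) (n : ℕ) (x : HU G n (j ''ᵁ (⊤ : Z.Opens))) :
    restrU j rfl G n x = restrHU j G n x :=
  congrArg (restrHU j G n) (Ext.mk₀_id_comp x)

theorem restrU_natural {G G' : AbSh X.toTopCat} (φ : G ⟶ G') (n : ℕ) (x : HU G n U) :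
    restrU j hU G' n (x.comp (Ext.mk₀ φ) (add_zero n)) =
      (restrU j hU G n x).comp (Ext.mk₀ ((restrAb j).map φ)) (add_zero n) := by
  subst hU
  rw [restrU_rfl, restrU_rfl, restrHU_natural]

theorem restrU_delta {S : ShortComplex (AbSh X.toTopCat)} (hS : S.ShortExact) (n : ℕ) (y : HU S.X₃ n U) :
    restrU j hU S.X₁ (n + 1) (y.comp hS.extClass rfl) =
      (restrU j hU S.X₃ n y).comp (hS.map_of_exact (restrAb j)).extClass rfl := by
  subst hU
  rw [restrU_rfl, restrU_rfl, restrHU_delta]

theorem h0_restrU (G : AbSh X.toTopCat) (x : HU G 0 U) :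
    h0 (restrU j hU G 0 x) = G.obj.map (eqToHom (congrArg op hU)) (h0 x) := by
  subst hU
  rw [restrU_rfl, h0_restrHU]
  exact (congr($(G.obj.map_id _) (h0 x))).symm

theorem restrU_bijective (G : AbSh X.toTopCat) (n : ℕ) : Function.Bijective (restrU j hU G n) := by
  subst hU
  rw [show ⇑(restrU j rfl G n) = ⇑(restrHU j G n) from funext (restrU_rfl j G n)]
  exact restrHU_bijective j n G

theorem down_scal : ∀ (k m n : ℕ) (h : m + k = n) (x x' : HU ((Res.ofInjective I).Z k) m U),
    restrU j hU _ m x' = (restrU j hU _ m x).comp (Ext.mk₀ (zScal j hU I r k)) (add_zero m) →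
    restrU j hU _ n ((Res.ofInjective I).down U k m n h x') =
      (restrU j hU _ n ((Res.ofInjective I).down U k m n h x)).comp (Ext.mk₀ (scal j hU M r)) (add_zero n)
  | 0, m, n, h, x, x', hx => by
    obtain rfl : m = n := h
    show restrU j hU _ m (x'.comp (Ext.mk₀ _) (add_zero m)) =
      (restrU j hU _ m (x.comp (Ext.mk₀ _) (add_zero m))).comp _ _
    rw [restrU_natural, restrU_natural, hx, Ext.comp_assoc_of_second_deg_zero, Ext.comp_assoc_of_second_deg_zero,
      Ext.mk₀_comp_mk₀, Ext.mk₀_comp_mk₀, zScal_invAug]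
  | k + 1, m, n, h, x, x', hx => by
    refine down_scal k (m + 1) n (by omega) ((Res.ofInjective I).dlt U k m x) ((Res.ofInjective I).dlt U k m x') ?_
    let S := (Res.ofInjective I).cyc k
    have hS := (Res.ofInjective I).cyc_shortExact k
    let hT := hS.map_of_exact (restrAb j)
    let e : S.map (restrAb j) ⟶ S.map (restrAb j) :=
      ShortComplex.homMk (zScal j hU I r k) (scal j hU (I.cocomplex.X k) r) (zScal j hU I r (k + 1))
        (zScal_ι j hU I r k) (zScal_g j hU I r k)
    refine (restrU_delta j hU hS m x').trans ?_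
    refine (congrArg (fun z => Ext.comp z hT.extClass rfl) hx).trans ?_
    refine Eq.trans ?_ (congrArg (fun z => Ext.comp z (Ext.mk₀ (zScal j hU I r k)) (add_zero (m + 1)))
      (restrU_delta j hU hS m x)).symm
    refine (Ext.comp_assoc_of_second_deg_zero _ _ _ _).trans (Eq.trans ?_ (Ext.comp_assoc_of_third_deg_zero _ _ _ _).symm)
    exact congrArg (fun y => Ext.comp (restrU j hU _ m x) y rfl)
      (ShortComplex.ShortExact.extClass_naturality hT hT e).symm

theorem cls_scal (n : ℕ) (z z' : ((Res.ofInjective I).Z n).obj.obj (op U))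
    (hz : (kernel.ι ((Res.ofInjective I).K.d n (n + 1))).hom.app (op U) z' =
      (show MSec (I.cocomplex.X n) U from r • (show MSec (I.cocomplex.X n) U from
        (kernel.ι ((Res.ofInjective I).K.d n (n + 1))).hom.app (op U) z))) :
    restrU j hU _ n ((Res.ofInjective I).cls U n z') =
      (restrU j hU _ n ((Res.ofInjective I).cls U n z)).comp (Ext.mk₀ (scal j hU M r)) (add_zero n) := by
  refine down_scal j hU I r n 0 n (zero_add n) _ _ ?_
  haveI : Mono ((restrAb j).map (kernel.ι ((Res.ofInjective I).K.d n (n + 1)))) := Functor.map_mono _ _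
  refine h0.injective ?_
  refine (h0_restrU j hU _ _).trans (Eq.trans ?_ (QCohLib.h0_comp _ _).symm)
  rw [h0_restrU]
  show _ = (zScal j hU I r n).hom.app (op ⊤) _
  rw [show h0 ((h0 (F := (Res.ofInjective I).Z n) (U := U)).symm.toAddMonoidHom z') = z' from AddEquiv.apply_symm_apply _ _,
    show h0 ((h0 (F := (Res.ofInjective I).Z n) (U := U)).symm.toAddMonoidHom z) = z from AddEquiv.apply_symm_apply _ _]
  refine app_injective ((restrAb j).map (kernel.ι ((Res.ofInjective I).K.d n (n + 1)))) ⊤ ?_
  refine Eq.trans ?_ (congr($(congrArg (fun φ : (restrAb j).obj ((Res.ofInjective I).Z n) ⟶ _ => φ.hom.app (op ⊤))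
    (zScal_ι j hU I r n)) _)).symm
  let ι := kernel.ι ((Res.ofInjective I).K.d n (n + 1))
  refine (congr($(ι.hom.naturality (eqToHom (congrArg op hU))) z')).trans ?_
  show (I.cocomplex.X n).val.map (eqToHom (congrArg op hU)) (ι.hom.app (op U) z') =
    scalSec (I.cocomplex.X n) r (image_le_of_eq j ⊤ hU) _
  rw [hz]
  refine (PresheafOfModules.map_smul (I.cocomplex.X n).val _ _ _).trans ?_
  refine congrArg₂ (fun (a : RSec O (j ''ᵁ ⊤)) (b : MSec (I.cocomplex.X n) (j ''ᵁ ⊤)) => a • b)
    (congr($(congrArg O.obj.map (Subsingleton.elim _ _)) r)) ?_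
  exact (congr($(ι.hom.naturality (eqToHom (congrArg op hU))) z)).symm

end Scal

theorem homologyπ_mapHomologyIso {C D : Type*} [Category* C] [Category* D] [Limits.HasZeroMorphisms C]
    [Limits.HasZeroMorphisms D] {S : ShortComplex C} (F : C ⥤ D) [F.PreservesZeroMorphisms] [S.HasHomology]
    [(S.map F).HasHomology] (hl : S.LeftHomologyData) [F.PreservesLeftHomologyOf S] :
    (S.map F).homologyπ ≫ (S.mapHomologyIso F).hom =
      (hl.map F).cyclesIso.hom ≫ F.map (hl.π ≫ hl.homologyIso.inv) := by
  rw [ShortComplex.LeftHomologyData.mapHomologyIso_eq hl F, Iso.trans_hom,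
    ShortComplex.LeftHomologyData.homologyπ_comp_homologyIso_hom_assoc, F.map_comp, Functor.mapIso_hom, Iso.symm_hom]
  rfl

section Theta

variable {X Z : Scheme.{u}} (j : Z ⟶ X) [IsOpenImmersion j] {Y : TopCat.{u}}
  {OX : Sheaf (Opens.grothendieckTopology X.toTopCat) CommRingCat.{u}}
  {OY : Sheaf (Opens.grothendieckTopology Y) CommRingCat.{u}} (g : X.toTopCat ⟶ Y)
  (s : OY ⟶ ((Opens.map g).sheafPushforwardContinuous CommRingCat.{u} (Opens.grothendieckTopology Y)
    (Opens.grothendieckTopology X.toTopCat)).obj OX)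
  [HasInjectiveResolutions (ModSite.Mod OX)] (q : ℕ) (M : ModSite.Mod OX) (W : Opens Y)

/-- A section of the base, upstairs. -/
abbrev sApp (b : RSec OY W) : RSec OX (pre g W) := s.hom.app (op W) b

theorem piOf_smul (b : RSec OY W) (z z' : ((resOf M).Z q).obj.obj (op (pre g W)))
    (hz : (kernel.ι ((resOf M).K.d q (q + 1))).hom.app (op (pre g W)) z' =
      (show MSec ((injectiveResolution M).cocomplex.X q) (pre g W) from sApp g s W b •
        (show MSec ((injectiveResolution M).cocomplex.X q) (pre g W) from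
          (kernel.ι ((resOf M).K.d q (q + 1))).hom.app (op (pre g W)) z))) :
    (show MSec (((rm g s).Rpush q).obj M) W from piOf g s q M W z') =
      b • (show MSec (((rm g s).Rpush q).obj M) W from piOf g s q M W z) := by
  let S := (((rm g s).push.mapHomologicalComplex _).obj (injectiveResolution M).cocomplex).sc q
  let hl := S.leftHomologyData
  let f : hl.K ⟶ ((rm g s).Rpush q).obj M := hl.π ≫ hl.homologyIso.inv ≫
    ((injectiveResolution M).isoRightDerivedObj (rm g s).push q).symm.hom
  have e : (pushK g s M).homologyπ q ≫ (psi g s q M).hom = (hl.map (toAbS OY)).cyclesIso.hom ≫ (toAbS OY).map f := by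
    refine Eq.trans ((Category.assoc _ _ _).symm.trans (congrArg
      (fun z => z ≫ (toAbS OY).map ((injectiveResolution M).isoRightDerivedObj (rm g s).push q).symm.hom)
      (homologyπ_mapHomologyIso (toAbS OY) hl))) ((Category.assoc _ _ _).trans ?_)
    exact congrArg (fun z => (hl.map (toAbS OY)).cyclesIso.hom ≫ z)
      (((toAbS OY).map_comp _ _).symm.trans (congrArg (toAbS OY).map (Category.assoc _ _ _)))
  let c := fun w => (show MSec hl.K W from (hl.map (toAbS OY)).cyclesIso.hom.hom.app (op W) (toCycle g s q M W w))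
  have hc : ∀ w, hl.i.val.app (op W) (c w) =
      (show MSec S.X₂ W from (kernel.ι ((resOf M).K.d q (q + 1))).hom.app (op (pre g W)) w) := fun w => by
    refine Eq.trans ?_ (iCycles_toCycle g s q M W w)
    exact congr($(congrArg (fun φ : (pushK g s M).cycles q ⟶ (pushK g s M).X q => φ.hom.app (op W))
      (hl.map (toAbS OY)).cyclesIso_hom_comp_i) (toCycle g s q M W w))
  have hπ : ∀ w, (show MSec (((rm g s).Rpush q).obj M) W from piOf g s q M W w) = f.val.app (op W) (c w) := fun w =>
    congr($(congrArg (fun φ : (pushK g s M).cycles q ⟶ (toAbS OY).obj (((rm g s).Rpush q).obj M) => φ.hom.app (op W)) e)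
      (toCycle g s q M W w))
  have key : c z' = b • c z := by
    refine app_injective ((toAbS OY).map hl.i) W ?_
    show hl.i.val.app (op W) (c z') = hl.i.val.app (op W) (b • c z)
    refine ((hc z').trans hz).trans (Eq.trans ?_ (map_smul (hl.i.val.app (op W)).hom b (c z)).symm)
    exact (congrArg (fun y : MSec S.X₂ W => b • y) (hc z)).symm
  rw [hπ, hπ, key]
  exact map_smul (f.val.app (op W)).hom b (c z)

/-- **The comparison is linear.** -/
theorem theta_smul (hW : pre g W = j ''ᵁ (⊤ : Z.Opens)) (b : RSec OY W)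
    (x x' : HU ((toAbS OX).obj M) q (pre g W))
    (hx : restrU j hW _ q x' = (restrU j hW _ q x).comp (Ext.mk₀ (scal j hW M (sApp g s W b))) (add_zero q)) :
    (show MSec (((rm g s).Rpush q).obj M) W from theta g s q M W x') =
      b • (show MSec (((rm g s).Rpush q).obj M) W from theta g s q M W x) := by
  obtain ⟨z, rfl⟩ := (resOf M).cls_surjective (pre g W) q x
  let N := (injectiveResolution M).cocomplex
  let r := sApp g s W b
  let y : MSec (N.X q) (pre g W) := (kernel.ι ((resOf M).K.d q (q + 1))).hom.app (op (pre g W)) z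
  have hy : (N.d q (q + 1)).val.app (op (pre g W)) (r • y) = 0 := by
    refine (map_smul ((N.d q (q + 1)).val.app (op (pre g W))).hom r y).trans ?_
    have : (N.d q (q + 1)).val.app (op (pre g W)) y = 0 :=
      congr($(congrArg (fun φ : (resOf M).Z q ⟶ (resOf M).K.X (q + 1) => φ.hom.app (op (pre g W)))
        (kernel.condition ((resOf M).K.d q (q + 1)))) z)
    exact (congrArg (fun w => r • w) this).trans (smul_zero r)
  obtain ⟨z', hz'⟩ := exists_kernel_sec ((resOf M).K.d q (q + 1)) (U := pre g W) (r • y) hy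
  obtain rfl : x' = (resOf M).cls (pre g W) q z' := (restrU_bijective j hW _ q).1
    (hx.trans (cls_scal j hW (injectiveResolution M) r q z z' hz').symm)
  rw [theta_cls, theta_cls]
  exact piOf_smul g s q M W b z z' hz'

end Theta

end FRpushLib

end
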