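import Groth.Agent.QCohLib.OpenRestr
import Mathlib.Algebra.Homology.DerivedCategory.Ext.Map

/-!
# Cohomology on an open, naturally
-/

set_option autoImplicit false
set_option linter.style.haveILetI false
set_option linter.unusedSectionVars false

universe u

open CategoryTheory CategoryTheory.Limits TopologicalSpace Opposite AlgebraicGeometry CategoryTheory.Abelian
open QCohLib (AbSh HU zsh zEquiv gen h0 restrAb)

noncomputable section

namespace FRpushLib

variable {X W : Scheme.{u}} (j : W ⟶ X) [IsOpenImmersion j]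

instance : (restrAb j).Additive where

theorem exact_restrAb : PreservesFiniteLimits (restrAb j) ∧ PreservesFiniteColimits (restrAb j) :=
  ((Functor.exact_tfae (restrAb j)).out 0 3 rfl rfl).mp fun _ hS => QCohLib.restrAb_shortExact j hS

instance preservesFiniteLimits_restrAb : PreservesFiniteLimits (restrAb j) := (exact_restrAb j).1

instance preservesFiniteColimits_restrAb : PreservesFiniteColimits (restrAb j) := (exact_restrAb j).2

/-- The generator, restricted. -/
def topGen : zsh (⊤ : W.Opens) ⟶ (restrAb j).obj (zsh (j ''ᵁ (⊤ : W.Opens))) :=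
  zEquiv.symm (gen (j ''ᵁ (⊤ : W.Opens)))

/-- **Restriction of classes to the open.** -/
def restrHU (G : AbSh X.toTopCat) (n : ℕ) :
    HU G n (j ''ᵁ (⊤ : W.Opens)) →+ HU ((restrAb j).obj G) n (⊤ : W.Opens) :=
  ((Ext.mk₀ (topGen j)).precomp _ (zero_add n)).comp ((restrAb j).mapExtAddHom _ _ n)

theorem restrHU_apply (G : AbSh X.toTopCat) (n : ℕ) (x : HU G n (j ''ᵁ (⊤ : W.Opens))) :
    restrHU j G n x = (Ext.mk₀ (topGen j)).comp (x.mapExactFunctor (restrAb j)) (zero_add n) := rfl

theorem restrHU_natural {G G' : AbSh X.toTopCat} (φ : G ⟶ G') (n : ℕ) (x : HU G n (j ''ᵁ (⊤ : W.Opens))) :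
    restrHU j G' n (x.comp (Ext.mk₀ φ) (add_zero n)) =
      (restrHU j G n x).comp (Ext.mk₀ ((restrAb j).map φ)) (add_zero n) := by
  rw [restrHU_apply, restrHU_apply, Ext.mapExactFunctor_comp, Ext.mapExactFunctor_mk₀,
    Ext.comp_assoc_of_third_deg_zero]

theorem restrHU_delta {S : ShortComplex (AbSh X.toTopCat)} (hS : S.ShortExact) (n : ℕ)
    (y : HU S.X₃ n (j ''ᵁ (⊤ : W.Opens))) :
    restrHU j S.X₁ (n + 1) (y.comp hS.extClass rfl) =
      (restrHU j S.X₃ n y).comp (hS.map_of_exact (restrAb j)).extClass rfl := by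
  rw [restrHU_apply, restrHU_apply, Ext.mapExactFunctor_comp, Ext.mapExactFunctor_extClass]
  exact (Ext.comp_assoc _ _ _ (zero_add n) rfl (by omega)).symm

theorem h0_restrHU (G : AbSh X.toTopCat) (x : HU G 0 (j ''ᵁ (⊤ : W.Opens))) :
    h0 (restrHU j G 0 x) = h0 x := by
  obtain ⟨φ, rfl⟩ := QCohLib.h0_surj x
  rw [restrHU_apply, Ext.mapExactFunctor_mk₀, Ext.mk₀_comp_mk₀, QCohLib.h0_mk₀, QCohLib.h0_mk₀, QCohLib.zEquiv_comp,
    topGen, AddEquiv.apply_symm_apply]
  rfl

/-- **Cohomology of the open subscheme is cohomology on the open.** -/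
theorem restrHU_bijective : ∀ (n : ℕ) (G : AbSh X.toTopCat), Function.Bijective (restrHU j G n) := by
  intro n
  induction n with
  | zero =>
    intro G
    have e : restrHU j G 0 = (h0 (F := (restrAb j).obj G) (U := (⊤ : W.Opens))).symm ∘ (h0 (F := G) (U := j ''ᵁ (⊤ : W.Opens))) :=
      funext fun x => (AddEquiv.eq_symm_apply _).2 (h0_restrHU j G x)
    rw [e]
    exact h0.symm.bijective.comp h0.bijective
  | succ n ih =>
    intro G
    let S := QCohLib.injSeq G
    have hS : S.ShortExact := QCohLib.injSeq_shortExact G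
    have hT := hS.map_of_exact (restrAb j)
    haveI : Subsingleton (HU (S.map (restrAb j)).X₂ (n + 1) (⊤ : W.Opens)) :=
      @QCohLib.subsingleton_of_isFlasque _ n _ (@QCohLib.isFlasque_restrAb _ _ j _ S.X₂ (QCohLib.isFlasque_of_injective S.X₂)) _
    refine ⟨(injective_iff_map_eq_zero _).2 fun x hx => ?_, fun x => ?_⟩
    · obtain ⟨y, rfl⟩ := QCohLib.exists_eq_comp_extClass hS x
      replace hx := (restrHU_delta j hS n y).symm.trans hx
      obtain ⟨w, hw⟩ := Ext.covariant_sequence_exact₃ _ hT (restrHU j S.X₃ n y) rfl hx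
      obtain ⟨w', rfl⟩ := (ih S.X₂).2 w
      have e : y = w'.comp (Ext.mk₀ S.g) (add_zero n) :=
        (ih S.X₃).1 (hw.symm.trans (restrHU_natural j S.g n w').symm)
      rw [e, Ext.comp_assoc_of_second_deg_zero, hS.comp_extClass, Ext.comp_zero]
    · obtain ⟨z, hz⟩ := QCohLib.exists_eq_comp_extClass hT x
      obtain ⟨y, rfl⟩ := (ih S.X₃).2 z
      exact ⟨y.comp hS.extClass rfl, (restrHU_delta j hS n y).trans hz⟩

end FRpushLib
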