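import Groth.Agent.FRpushLib.SpfW
import Groth.Agent.FRpushLib.Lim
import Groth.Agent.FRpushLib.RestrExt
import Groth.Agent.FModLib.Formal
import Groth.Agent.FModLib.LimTower
import Groth.Agent.FModLib.MilnorLim
import Groth.Agent.CohGenLib.Localization

/-!
# The cohomology of the levels over the preimage of an affine open stabilises
-/

set_option autoImplicit false
set_option linter.style.haveILetI false
set_option maxHeartbeats 800000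

universe u

open CategoryTheory CategoryTheory.Limits AlgebraicGeometry TopologicalSpace Opposite FSch CategoryTheory.Abelian
open FModLib (lev towG towT)

noncomputable section

namespace FRpushLib

theorem stable_of_bijective {M : ℕ → Type*} [∀ k, AddCommGroup (M k)] {t : ∀ k, M (k + 1) →+ M k}
    {M' : ℕ → Type*} [∀ k, AddCommGroup (M' k)] {t' : ∀ k, M' (k + 1) →+ M' k} (b : ∀ k, M k →+ M' k)
    (hb : ∀ k, Function.Bijective (b k)) (hc : ∀ k x, b k (t k x) = t' k (b (k + 1) x)) (h : FModLib.Stable t') :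
    FModLib.Stable t := by
  have key : ∀ k L x, b k (FModLib.comp t k L x) = FModLib.comp t' k L (b (k + L) x) := fun k L => by
    induction L with
    | zero => exact fun _ => rfl
    | succ L ih => exact fun x => (ih _).trans (congrArg (FModLib.comp t' k L) (hc (k + L) x))
  intro k
  obtain ⟨e, he⟩ := h k
  refine ⟨e, fun L hL y => ?_⟩
  obtain ⟨z, hz⟩ := he L hL (b _ y)
  obtain ⟨y', rfl⟩ := (hb _).2 z
  exact ⟨y', (hb k).1 ((key k (L + 1) y').trans (hz.trans (key k L y).symm))⟩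

theorem restrict_adjunct_app {X X' Z Z' : Scheme.{u}} (ι : X ⟶ X') (i : Z ⟶ Z') (j : Z ⟶ X) (j' : Z' ⟶ X')
    [IsOpenImmersion j] [IsOpenImmersion j'] (sq : i ≫ j' = j ≫ ι) {M : X'.Modules} {N : X.Modules}
    (t : M ⟶ (Scheme.Modules.pushforward ι).obj N) (O : Z'.Opens) (s : M.presheaf.obj (op (j' ''ᵁ O)))
    (m : op (ι ⁻¹ᵁ (j' ''ᵁ O)) ⟶ op (j ''ᵁ (i ⁻¹ᵁ O))) :
    ((Scheme.Modules.restrictFunctor j').map (t ≫
        (Scheme.Modules.pushforward ι).map ((Scheme.Modules.restrictAdjunction j).unit.app N) ≫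
        (Scheme.Modules.pushforwardComp i j' ≪≫ Scheme.Modules.pushforwardCongr sq ≪≫
          (Scheme.Modules.pushforwardComp j ι).symm).inv.app ((Scheme.Modules.restrictFunctor j).obj N)) ≫
      (Scheme.Modules.restrictAdjunction j').counit.app
        ((Scheme.Modules.pushforward i).obj ((Scheme.Modules.restrictFunctor j).obj N))).app O s =
      N.presheaf.map m (t.app (j' ''ᵁ O) s) := by
  simp only [Iso.trans_inv, Iso.symm_inv, NatTrans.comp_app, Scheme.Modules.Hom.comp_app, Functor.map_comp,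
    Scheme.Modules.restrictAdjunction_counit_app_app, Scheme.Modules.restrictAdjunction_unit_app_app,
    Scheme.Modules.pushforwardComp_inv_app_app, Scheme.Modules.pushforwardComp_hom_app_app,
    Scheme.Modules.pushforwardCongr_inv_app_app, ConcreteCategory.comp_apply]
  show N.presheaf.map _ (N.presheaf.map _ (N.presheaf.map _ (t.app (j' ''ᵁ O) s))) = _
  rw [← N.presheaf.map_comp_apply, ← N.presheaf.map_comp_apply]
  exact congr($(congrArg N.presheaf.map (Subsingleton.elim _ m)) (t.app (j' ''ᵁ O) s))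

variable (𝔛 : Sys.{u}) (h : 𝔛.IsFormal) (U : (𝔛.X 0).Opens)

theorem formal_restrictOpen : (𝔛.restrictOpen h U).IsFormal := (Groth.Agent.S13342.result 𝔛 h U).1

theorem image_lvU (k : ℕ) (V : ((𝔛.restrictOpen h U).X 0).Opens) :
    (𝔛.lvU h k U).ι ''ᵁ ((𝔛.restrictOpen h U).lvU (formal_restrictOpen 𝔛 h U) k V) =
      𝔛.lvU h k ((𝔛.lvU h 0 U).ι ''ᵁ V) := by
  have hsq : ∀ y : ((𝔛.restrictOpen h U).X k),
      (𝔛.lvU h 0 U).ι ((𝔛.restrictOpen h U).gInv (formal_restrictOpen 𝔛 h U) k y) =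
        𝔛.gInv h k ((𝔛.lvU h k U).ι y) := fun y =>
    (congr($(Hom.base_gInv (𝔛.restrictOpenι h U) (formal_restrictOpen 𝔛 h U) h k) y)).symm
  ext x
  constructor
  · rintro ⟨y, hy, rfl⟩
    exact ⟨_, hy, hsq y⟩
  · rintro ⟨v, hv, hvx⟩
    have hxU : 𝔛.gInv h k x ∈ U := by
      have h0 : 𝔛.gInv h 0 v.1 ∈ U := v.2
      rw [FModLib.gInv_zero] at h0
      exact hvx ▸ h0
    refine ⟨⟨x, hxU⟩, ?_, rfl⟩
    have e : (𝔛.lvU h 0 U).ι ((𝔛.restrictOpen h U).gInv (formal_restrictOpen 𝔛 h U) k ⟨x, hxU⟩) =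
        (𝔛.lvU h 0 U).ι v := (hsq _).trans hvx.symm
    show (𝔛.restrictOpen h U).gInv (formal_restrictOpen 𝔛 h U) k ⟨x, hxU⟩ ∈ V
    exact ((Scheme.Hom.isOpenEmbedding (𝔛.lvU h 0 U).ι).injective e).symm ▸ hv

theorem image_top_eq : (𝔛.lvU h 0 U).ι ''ᵁ (⊤ : ((𝔛.lvU h 0 U : Scheme.{u})).Opens) = U := by
  rw [Scheme.Hom.image_top_eq_opensRange, Scheme.Opens.opensRange_ι]
  show (Opens.map (𝔛.gInv h 0)).obj U = U
  rw [FModLib.gInv_zero]
  rfl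

variable (𝔉 : ModF 𝔛 h)

/-- The levels on the open. -/
abbrev levR (k : ℕ) : ((𝔛.restrictOpen h U).X k).Modules :=
  (Scheme.Modules.restrictFunctor (𝔛.lvU h k U).ι).obj (lev h 𝔉 k)

/-- The two ways to push forward from a restricted level. -/
def pushSq (k : ℕ) :
    Scheme.Modules.pushforward ((𝔛.restrictOpen h U).ι k) ⋙ Scheme.Modules.pushforward (𝔛.lvU h (k + 1) U).ι ≅
      Scheme.Modules.pushforward (X := (𝔛.restrictOpen h U).X k) (𝔛.lvU h k U).ι ⋙ Scheme.Modules.pushforward (𝔛.ι k) :=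
  Scheme.Modules.pushforwardComp _ _ ≪≫ Scheme.Modules.pushforwardCongr (Scheme.Hom.resLE_comp_ι _ _) ≪≫
    (Scheme.Modules.pushforwardComp _ _).symm

/-- The transition isomorphisms on the open. -/
def psiR (k : ℕ) : (Scheme.Modules.pullback ((𝔛.restrictOpen h U).ι k)).obj (levR 𝔛 h U 𝔉 (k + 1)) ≅
    levR 𝔛 h U 𝔉 k :=
  ((((Scheme.Modules.restrictAdjunction (𝔛.lvU h (k + 1) U).ι).comp
      (Scheme.Modules.pullbackPushforwardAdjunction ((𝔛.restrictOpen h U).ι k))).ofNatIsoRight (pushSq 𝔛 h U k)).leftAdjointUniq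
    ((Scheme.Modules.pullbackPushforwardAdjunction (𝔛.ι k)).comp
      (Scheme.Modules.restrictAdjunction (𝔛.lvU h k U).ι))).app (lev h 𝔉 (k + 1)) ≪≫
    (Scheme.Modules.restrictFunctor (𝔛.lvU h k U).ι).mapIso (FModLib.psi h 𝔉 k)

theorem unit_psiR (k : ℕ) :
    (Scheme.Modules.pullbackPushforwardAdjunction ((𝔛.restrictOpen h U).ι k)).unit.app (levR 𝔛 h U 𝔉 (k + 1)) ≫
        (Scheme.Modules.pushforward ((𝔛.restrictOpen h U).ι k)).map (psiR 𝔛 h U 𝔉 k).hom =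
      (Scheme.Modules.restrictFunctor (𝔛.lvU h (k + 1) U).ι).map (FModLib.tMap h 𝔉 k ≫
          (Scheme.Modules.pushforward (𝔛.ι k)).map
            ((Scheme.Modules.restrictAdjunction (𝔛.lvU h k U).ι).unit.app (lev h 𝔉 k)) ≫
          (pushSq 𝔛 h U k).inv.app (levR 𝔛 h U 𝔉 k)) ≫
        (Scheme.Modules.restrictAdjunction (𝔛.lvU h (k + 1) U).ι).counit.app
          ((Scheme.Modules.pushforward ((𝔛.restrictOpen h U).ι k)).obj (levR 𝔛 h U 𝔉 k)) := by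
  let a1 := Scheme.Modules.restrictAdjunction (𝔛.lvU h (k + 1) U).ι
  let a3 := (Scheme.Modules.pullbackPushforwardAdjunction (𝔛.ι k)).comp
    (Scheme.Modules.restrictAdjunction (𝔛.lvU h k U).ι)
  let R' := Scheme.Modules.restrictFunctor (𝔛.lvU h k U).ι
  have h0 := FModLib.unit_comp_eq a1 (Scheme.Modules.pullbackPushforwardAdjunction ((𝔛.restrictOpen h U).ι k))
    a3 (pushSq 𝔛 h U k) (lev h 𝔉 (k + 1))
  rw [psiR, Iso.trans_hom, Functor.map_comp, ← Category.assoc]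
  refine (congrArg (fun z => z ≫ (Scheme.Modules.pushforward ((𝔛.restrictOpen h U).ι k)).map
    (R'.map (FModLib.psi h 𝔉 k).hom)) h0).trans ?_
  refine (Adjunction.homEquiv_naturality_right_symm a1 _ _).symm.trans ?_
  rw [Adjunction.homEquiv_counit]
  refine congrArg (fun z => (Scheme.Modules.restrictFunctor (𝔛.lvU h (k + 1) U).ι).map z ≫ _) ?_
  rw [Category.assoc, Adjunction.comp_unit_app]
  refine (congrArg (fun z => (_ ≫ _) ≫ z) ((pushSq 𝔛 h U k).inv.naturality (R'.map (FModLib.psi h 𝔉 k).hom)).symm).trans ?_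
  rw [← FModLib.unit_psi]
  simp only [Functor.comp_map, Category.assoc]
  refine congrArg (fun z => _ ≫ z) ?_
  rw [← Category.assoc, ← Category.assoc]
  refine congrArg (fun z => z ≫ _) ?_
  refine ((Scheme.Modules.pushforward (𝔛.ι k)).map_comp _ _).symm.trans (Eq.trans ?_ ((Scheme.Modules.pushforward (𝔛.ι k)).map_comp _ _))
  exact congrArg (Scheme.Modules.pushforward (𝔛.ι k)).map
    ((Scheme.Modules.restrictAdjunction (𝔛.lvU h k U).ι).unit.naturality (FModLib.psi h 𝔉 k).hom).symm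

theorem unit_psiR_app (k : ℕ) (O : ((𝔛.lvU h (k + 1) U : Scheme.{u})).Opens)
    (s : (lev h 𝔉 (k + 1)).presheaf.obj (op ((𝔛.lvU h (k + 1) U).ι ''ᵁ O)))
    (m : op (𝔛.ι k ⁻¹ᵁ ((𝔛.lvU h (k + 1) U).ι ''ᵁ O)) ⟶
      op ((𝔛.lvU h k U).ι ''ᵁ ((𝔛.restrictOpen h U).ι k ⁻¹ᵁ O))) :
    ((Scheme.Modules.pullbackPushforwardAdjunction ((𝔛.restrictOpen h U).ι k)).unit.app (levR 𝔛 h U 𝔉 (k + 1)) ≫
        (Scheme.Modules.pushforward ((𝔛.restrictOpen h U).ι k)).map (psiR 𝔛 h U 𝔉 k).hom).app O s =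
      (lev h 𝔉 k).presheaf.map m ((FModLib.tMap h 𝔉 k).app ((𝔛.lvU h (k + 1) U).ι ''ᵁ O) s) := by
  refine (congr($(congrArg (fun φ : levR 𝔛 h U 𝔉 (k + 1) ⟶ _ => φ.app O) (unit_psiR 𝔛 h U 𝔉 k)) s)).trans ?_
  exact restrict_adjunct_app (Z := (𝔛.lvU h k U : Scheme.{u})) (Z' := (𝔛.lvU h (k + 1) U : Scheme.{u})) (𝔛.ι k) ((𝔛.restrictOpen h U).ι k) (𝔛.lvU h k U).ι (𝔛.lvU h (k + 1) U).ι
    (Scheme.Hom.resLE_comp_ι _ _) (FModLib.tMap h 𝔉 k) O s m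

section Theta

variable {𝔛 : Sys.{u}} (hloc : 𝔛.IsLocNoethFormal) (U : (𝔛.X 0).Opens) (𝔉 : ModF 𝔛 hloc.1)

/-- The levels of the open are the restrictions of the levels. -/
def thetaR (k : ℕ) :
    (FModLib.phi (formal_restrictOpen 𝔛 hloc.1 U) k).obj (levR 𝔛 hloc.1 U 𝔉 k) ≅
      (QCohLib.restrAb (𝔛.lvU hloc.1 0 U).ι).obj (towG hloc 𝔉 k) :=
  let a : ((𝔛.restrictOpen hloc.1 U).X 0).Opens ⥤ (𝔛.X k).Opens :=
    Opens.map ((𝔛.restrictOpen hloc.1 U).gInv (formal_restrictOpen 𝔛 hloc.1 U) k) ⋙ (𝔛.lvU hloc.1 k U).ι.opensFunctor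
  let b : ((𝔛.restrictOpen hloc.1 U).X 0).Opens ⥤ (𝔛.X k).Opens :=
    (𝔛.lvU hloc.1 0 U).ι.opensFunctor ⋙ Opens.map (𝔛.gInv hloc.1 k)
  let e : b ≅ a := NatIso.ofComponents (fun V => eqToIso (image_lvU 𝔛 hloc.1 U k V).symm)
    fun _ => Subsingleton.elim _ _
  let ε : a.op ⋙ (lev hloc.1 𝔉 k).presheaf ≅ b.op ⋙ (lev hloc.1 𝔉 k).presheaf :=
    Functor.isoWhiskerRight (NatIso.op e) _
  { hom := ⟨ε.hom⟩
    inv := ⟨ε.inv⟩
    hom_inv_id := Sheaf.hom_ext ε.hom_inv_id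
    inv_hom_id := Sheaf.hom_ext ε.inv_hom_id }

theorem thetaR_app (k : ℕ) (V : ((𝔛.restrictOpen hloc.1 U).X 0).Opens)
    (s : ((FModLib.phi (formal_restrictOpen 𝔛 hloc.1 U) k).obj (levR 𝔛 hloc.1 U 𝔉 k)).obj.obj (op V)) :
    (thetaR hloc U 𝔉 k).hom.hom.app (op V) s =
      (lev hloc.1 𝔉 k).presheaf.map (eqToHom (congrArg op (image_lvU 𝔛 hloc.1 U k V))) s :=
  congr($(congrArg (lev hloc.1 𝔉 k).presheaf.map (Subsingleton.elim _ _)) s)

theorem dd_thetaR {A : Type u} [CommRing A] (J : Ideal A) (f' : 𝔛.restrictOpen hloc.1 U ⟶ spf A J)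
    (hf' : IsProperHom f') (k : ℕ) :
    FModLib.dd (FModLib.real (formal_restrictOpen 𝔛 hloc.1 U) J f' hf') (levR 𝔛 hloc.1 U 𝔉)
        (psiR 𝔛 hloc.1 U 𝔉) k ≫ (thetaR hloc U 𝔉 k).hom =
      (thetaR hloc U 𝔉 (k + 1)).hom ≫ (QCohLib.restrAb (𝔛.lvU hloc.1 0 U).ι).map (towT hloc 𝔉 k) := by
  refine Sheaf.hom_ext (NatTrans.ext (funext fun V => ConcreteCategory.hom_ext _ _ fun s => ?_))
  obtain ⟨V⟩ := V
  let P := (lev hloc.1 𝔉 k).presheaf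
  let O := (𝔛.restrictOpen hloc.1 U).lvU (formal_restrictOpen 𝔛 hloc.1 U) (k + 1) V
  have e1 : 𝔛.ι k ⁻¹ᵁ ((𝔛.lvU hloc.1 (k + 1) U).ι ''ᵁ O) =
      (𝔛.lvU hloc.1 k U).ι ''ᵁ ((𝔛.restrictOpen hloc.1 U).ι k ⁻¹ᵁ O) := by
    exact (congrArg (fun Q => 𝔛.ι k ⁻¹ᵁ Q) (image_lvU 𝔛 hloc.1 U (k + 1) V)).trans
      ((𝔛.lvU_succ hloc.1 k _).trans ((image_lvU 𝔛 hloc.1 U k V).symm.trans
        (congrArg (fun Q => (𝔛.lvU hloc.1 k U).ι ''ᵁ Q)
          ((𝔛.restrictOpen hloc.1 U).lvU_succ (formal_restrictOpen 𝔛 hloc.1 U) k V).symm)))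
  let m : op (𝔛.ι k ⁻¹ᵁ ((𝔛.lvU hloc.1 (k + 1) U).ι ''ᵁ O)) ⟶
      op ((𝔛.lvU hloc.1 k U).ι ''ᵁ ((𝔛.restrictOpen hloc.1 U).ι k ⁻¹ᵁ O)) := eqToHom (congrArg op e1)
  let e := eqToHom (congrArg op (image_lvU 𝔛 hloc.1 U (k + 1) V))
  refine (thetaR_app hloc U 𝔉 k V _).trans (Eq.trans ?_
    (congrArg ((towT hloc 𝔉 k).hom.app (op ((𝔛.lvU hloc.1 0 U).ι ''ᵁ V))) (thetaR_app hloc U 𝔉 (k + 1) V s)).symm)
  let t := (FModLib.tMap hloc.1 𝔉 k).app ((𝔛.lvU hloc.1 (k + 1) U).ι ''ᵁ O) s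
  let n0 : op (𝔛.lvU hloc.1 k ((𝔛.lvU hloc.1 0 U).ι ''ᵁ V)) ⟶ op (𝔛.lvU hloc.1 k ((𝔛.lvU hloc.1 0 U).ι ''ᵁ V)) := 𝟙 _
  let l' := (𝔛.lvU hloc.1 k U).ι.opensFunctor.map (homOfLE ((𝔛.restrictOpen hloc.1 U).lvU_le
    (formal_restrictOpen 𝔛 hloc.1 U) k V))
  let l := homOfLE (𝔛.lvU_le hloc.1 k ((𝔛.lvU hloc.1 0 U).ι ''ᵁ V))
  let d := eqToHom (congrArg op (image_lvU 𝔛 hloc.1 U k V))
  show P.map d (P.map l'.op ((GrSysLib.res' (FModLib.thick J f' hf') (levR 𝔛 hloc.1 U 𝔉)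
      (psiR 𝔛 hloc.1 U 𝔉) k).app O s)) =
    P.map l.op ((FModLib.tMap hloc.1 𝔉 k).app (𝔛.lvU hloc.1 (k + 1) ((𝔛.lvU hloc.1 0 U).ι ''ᵁ V))
      ((lev hloc.1 𝔉 (k + 1)).presheaf.map e s))
  refine (congrArg (fun z => P.map d (P.map l'.op z)) (unit_psiR_app 𝔛 hloc.1 U 𝔉 k O s m)).trans
    (Eq.trans ?_ (congrArg (P.map l.op) (congr($((FModLib.tMap hloc.1 𝔉 k).mapPresheaf.naturality e) s))).symm)
  show P.map d (P.map l'.op (P.map m t)) = P.map l.op (P.map ((Opens.map (𝔛.ι k).base).map e.unop).op t)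
  refine ((P.map_comp_apply _ _ _).trans (congrArg (P.map d) (P.map_comp_apply _ _ _))).symm.trans
    (Eq.trans ?_ (P.map_comp_apply _ _ _))
  exact congr($(congrArg P.map (Subsingleton.elim _ _)) t)

/-- Cohomology of a level on the open, to the common space of the open. -/
def bR (n k : ℕ) : QCohLib.HU (towG hloc 𝔉 k) n ((𝔛.lvU hloc.1 0 U).ι ''ᵁ (⊤ : ((𝔛.lvU hloc.1 0 U : Scheme.{u})).Opens)) →+
    Sheaf.H ((FModLib.phi (formal_restrictOpen 𝔛 hloc.1 U) k).obj (levR 𝔛 hloc.1 U 𝔉 k)) n :=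
  ((QCohLib.hEquiv (X := ((𝔛.restrictOpen hloc.1 U).X 0).toTopCat) _ n).symm.toAddMonoidHom.comp
    ((Ext.mk₀ (thetaR hloc U 𝔉 k).inv).postcomp _ (add_zero n))).comp
    (restrHU (𝔛.lvU hloc.1 0 U).ι (towG hloc 𝔉 k) n)

theorem hEquiv_bR (n k : ℕ)
    (x : QCohLib.HU (towG hloc 𝔉 k) n ((𝔛.lvU hloc.1 0 U).ι ''ᵁ (⊤ : ((𝔛.lvU hloc.1 0 U : Scheme.{u})).Opens))) :
    QCohLib.hEquiv (X := ((𝔛.restrictOpen hloc.1 U).X 0).toTopCat) _ n (bR hloc U 𝔉 n k x) =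
      (restrHU (𝔛.lvU hloc.1 0 U).ι (towG hloc 𝔉 k) n x).comp (Ext.mk₀ (thetaR hloc U 𝔉 k).inv) (add_zero n) :=
  AddEquiv.apply_symm_apply _ _

theorem bR_bijective (n k : ℕ) : Function.Bijective (bR hloc U 𝔉 n k) := by
  refine ((QCohLib.hEquiv (X := ((𝔛.restrictOpen hloc.1 U).X 0).toTopCat) _ n).symm.bijective.comp ?_).comp
    (restrHU_bijective (𝔛.lvU hloc.1 0 U).ι n (towG hloc 𝔉 k))
  refine Function.bijective_iff_has_inverse.mpr
    ⟨fun y => y.comp (Ext.mk₀ (thetaR hloc U 𝔉 k).hom) (add_zero n), fun y => ?_, fun y => ?_⟩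
  · show Ext.comp (Ext.comp y (Ext.mk₀ (thetaR hloc U 𝔉 k).inv) (add_zero n)) (Ext.mk₀ (thetaR hloc U 𝔉 k).hom) (add_zero n) = y
    rw [Ext.comp_assoc_of_second_deg_zero, Ext.mk₀_comp_mk₀, Iso.inv_hom_id]
    exact y.comp_mk₀_id
  · show Ext.comp (Ext.comp y (Ext.mk₀ (thetaR hloc U 𝔉 k).hom) (add_zero n)) (Ext.mk₀ (thetaR hloc U 𝔉 k).inv) (add_zero n) = y
    rw [Ext.comp_assoc_of_second_deg_zero, Ext.mk₀_comp_mk₀, Iso.hom_inv_id]
    exact y.comp_mk₀_id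

/-- **The cohomology of the levels over an open proper over a formal spectrum stabilises.** -/
theorem stable_of_proper (h𝔉 : IsCohF 𝔛 hloc.1 𝔉) {A : Type u} [CommRing A] [IsNoetherianRing A] (J : Ideal A)
    (f' : 𝔛.restrictOpen hloc.1 U ⟶ spf A J) (hf' : IsProperHom f') (n : ℕ) :
    FModLib.Stable (M := fun k => Ext (QCohLib.zsh U) (towG hloc 𝔉 k) n)
      (FModLib.tE (G := towG hloc 𝔉) (t := towT hloc 𝔉) (QCohLib.zsh U) n) := by
  suffices key : ∀ U' : (𝔛.X 0).Opens,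
      U' = (𝔛.lvU hloc.1 0 U).ι ''ᵁ (⊤ : ((𝔛.lvU hloc.1 0 U : Scheme.{u})).Opens) →
      FModLib.Stable (M := fun k => Ext (QCohLib.zsh U') (towG hloc 𝔉 k) n)
        (FModLib.tE (G := towG hloc 𝔉) (t := towT hloc 𝔉) (QCohLib.zsh U') n) from
    key U (image_top_eq 𝔛 hloc.1 U).symm
  rintro U' rfl
  let h' := formal_restrictOpen 𝔛 hloc.1 U
  let R := FModLib.real h' J f' hf'
  have hc : ∀ k, Coh.IsCoh (levR 𝔛 hloc.1 U 𝔉 k) := fun k =>
    CohGenLib.isCoh_restrict (𝔛.lvU hloc.1 k U).ι (FModLib.isCoh_lev hloc.1 𝔉 h𝔉 k)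
  haveI : ∀ k, Coh.IsQCoh (X := (FModLib.thick J f' hf').X k) (levR 𝔛 hloc.1 U 𝔉 k) := fun k => (hc k).1
  obtain ⟨r, a, hspan⟩ := Submodule.fg_iff_exists_fin_generating_family.1 (IsNoetherian.noetherian J)
  refine stable_of_bijective (M' := fun k => FModLib.HR R (levR 𝔛 hloc.1 U 𝔉) n k)
    (t' := fun k => Sheaf.H.map (FModLib.dd R (levR 𝔛 hloc.1 U 𝔉) (psiR 𝔛 hloc.1 U 𝔉) k) n)
    (bR hloc U 𝔉 n) (bR_bijective hloc U 𝔉 n) (fun k x => ?_) fun k => ?_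
  · refine (QCohLib.hEquiv _ n).injective ?_
    refine ((hEquiv_bR hloc U 𝔉 n k _).trans ?_).trans (QCohLib.hEquiv_map _ n (bR hloc U 𝔉 n (k + 1) x)).symm
    refine Eq.trans ?_ (congrArg (fun z => Ext.comp z (Ext.mk₀ (FModLib.dd R (levR 𝔛 hloc.1 U 𝔉)
      (psiR 𝔛 hloc.1 U 𝔉) k)) (add_zero n)) (hEquiv_bR hloc U 𝔉 n (k + 1) x)).symm
    refine (congrArg (fun z => Ext.comp z _ _) (restrHU_natural (𝔛.lvU hloc.1 0 U).ι (towT hloc 𝔉 k) n x)).trans ?_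
    refine (Ext.comp_assoc_of_second_deg_zero ..).trans (Eq.trans ?_ (Ext.comp_assoc_of_second_deg_zero ..).symm)
    refine congrArg (fun z => Ext.comp _ z _) ?_
    refine (Ext.mk₀_comp_mk₀ _ _).trans (Eq.trans ?_ (Ext.mk₀_comp_mk₀ _ _).symm)
    refine congrArg Ext.mk₀ ?_
    rw [Iso.eq_inv_comp, ← Category.assoc, Iso.comp_inv_eq]
    exact (dd_thetaR hloc U 𝔉 J f' hf' k).symm
  · obtain ⟨e, he⟩ := FModLib.exists_stable (T := FModLib.thick J f' hf') R (levR 𝔛 hloc.1 U 𝔉)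
      (psiR 𝔛 hloc.1 U 𝔉) n a (fun i => hspan ▸ Submodule.subset_span ⟨i, rfl⟩) (hc 0) hspan k
    have key : ∀ L y, FModLib.comp
        (M := fun k => FModLib.HR R (levR 𝔛 hloc.1 U 𝔉) n k)
        (fun k => Sheaf.H.map (FModLib.dd R (levR 𝔛 hloc.1 U 𝔉) (psiR 𝔛 hloc.1 U 𝔉) k) n) k L y =
        Sheaf.H.map (FModLib.down R (levR 𝔛 hloc.1 U 𝔉) (psiR 𝔛 hloc.1 U 𝔉) k L) n y := fun L => by
      induction L with
      | zero => exact fun y => (Sheaf.H.map_id_apply y).symm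
      | succ L ih => exact fun y => (ih _).trans (FModLib.hm_comp (T := FModLib.thick J f' hf') n _ _ y)
    exact ⟨e, fun L hL y => (he L hL y).imp fun y' hy' => (key (L + 1) y').trans (hy'.trans (key L y).symm)⟩

end Theta

/-- **Over the preimage of an affine open the cohomology of the levels stabilises.** -/
theorem levStable {𝔛 𝔜 : Sys.{u}} (φ : 𝔛 ⟶ 𝔜) (hloc : 𝔛.IsLocNoethFormal) (h𝔜 : 𝔜.IsLocNoethFormal)
    (hf : IsProperHom φ) [HasInjectiveResolutions (ModF 𝔛 hloc.1)] (𝔉 : ModF 𝔛 hloc.1) (h𝔉 : IsCohF 𝔛 hloc.1 𝔉) :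
    LevStable φ hloc 𝔉 := fun W hW n => by
  obtain ⟨A, _, J, f', hN, hf'⟩ := exists_proper_spf φ hloc.1 h𝔜 hf hW
  haveI := hN
  exact stable_of_proper hloc _ 𝔉 h𝔉 J f' hf' n

end FRpushLib

end
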