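import Groth.Agent.FRpushLib.LevelMod
import Groth.Agent.FRpushLib.Stable
import Groth.Agent.QCohLib.Affine

/-!
# Mittag-Leffler for the higher direct images of the levels
-/

set_option autoImplicit false
set_option linter.style.haveILetI false
set_option maxHeartbeats 800000
set_option synthInstance.maxHeartbeats 80000

universe u

open CategoryTheory CategoryTheory.Limits AlgebraicGeometry TopologicalSpace Opposite FSch
open FModLib (MSec RSec mres rres)

noncomputable section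

namespace FRpushLib

section Levels

variable {𝔜 : Sys.{u}} (h : 𝔜.IsFormal) {W : (𝔜.X 0).Opens} (hW : IsAffineOpen W)

include hW in
/-- An element of `O` is a unit when it is so on every level. -/
theorem isUnit_of_levels (b : RSec (𝔜.Osh h) W)
    (hb : ∀ j, IsUnit ((𝔜.OshProj h j).hom.app (op W) b)) : IsUnit b := by
  let T := FModLib.toLim h W hW
  let S := FModLib.secSys h W hW
  have hu : ∀ j, IsUnit ((T b).1 j) := hb
  choose v hv using fun j => (hu j).exists_right_inv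
  have hf : ∀ j, S.f j (v (j + 1)) = v j := fun j => by
    refine (hu j).mul_left_cancel (Eq.trans ?_ (hv j).symm)
    refine (congrArg (· * S.f j (v (j + 1))) ((T b).2 j).symm).trans ?_
    exact (map_mul (S.f j) _ _).symm.trans ((congrArg (S.f j) (hv (j + 1))).trans (map_one _))
  have h3 : IsUnit (T b) := IsUnit.of_mul_eq_one ⟨v, hf⟩ (Subtype.ext (funext fun j => hv j))
  exact (isUnit_map_iff (RingEquiv.ofBijective T (FModLib.toLim_bijective h W hW)) _).1 h3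

include hW in
theorem oProj_surjective (j : ℕ) : Function.Surjective ((𝔜.OshProj h j).hom.app (op W)) := fun x => by
  obtain ⟨a, ha⟩ := (FModLib.secSys h W hW).proj_surjective j x
  obtain ⟨b, hb⟩ := (FModLib.toLim_bijective h W hW).2 a
  exact ⟨b, (congrArg (fun z => z.1 j) hb).trans ha⟩

include hW in
theorem toX_oProj : ∀ (j : ℕ) (b : RSec (𝔜.Osh h) W),
    (𝔜.toX j).appLE (𝔜.lvU h j W) (𝔜.lvU h 0 W) (FModLib.lvU_le_toX h j W) ((𝔜.OshProj h j).hom.app (op W) b) =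
      (𝔜.OshProj h 0).hom.app (op W) b := fun j b => by
  refine (congr($(FModLib.toZero_eq h W hW j) ((𝔜.OshProj h j).hom.app (op W) b))).symm.trans ?_
  induction j with
  | zero => rfl
  | succ j ih => exact (congrArg ((FModLib.secSys h W hW).toZero j) (FModLib.oProj_succ h W j b)).trans ih

include hW in
/-- The basic open of the common space cut out by a global element, on every level. -/
theorem lvU_basicOpen (b : RSec (𝔜.Osh h) W) (j : ℕ) :
    𝔜.lvU h j ((𝔜.X 0).basicOpen (show Γ(𝔜.X 0, 𝔜.lvU h 0 W) from (𝔜.OshProj h 0).hom.app (op W) b)) =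
      (𝔜.X j).basicOpen (show Γ(𝔜.X j, 𝔜.lvU h j W) from (𝔜.OshProj h j).hom.app (op W) b) := by
  let bj : Γ(𝔜.X j, 𝔜.lvU h j W) := (𝔜.OshProj h j).hom.app (op W) b
  let b0 : Γ(𝔜.X 0, 𝔜.lvU h 0 W) := (𝔜.OshProj h 0).hom.app (op W) b
  have hle := FModLib.lvU_le_toX h j W
  have h1 : (𝔜.X 0).basicOpen b0 = 𝔜.toX j ⁻¹ᵁ (𝔜.X j).basicOpen bj := by
    refine (congrArg (𝔜.X 0).basicOpen (toX_oProj h hW j b).symm).trans
      ((Scheme.basicOpen_appLE (𝔜.toX j) _ _ hle bj).trans (inf_eq_right.2 ?_))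
    refine (Scheme.Hom.preimage_mono _ ((𝔜.X j).basicOpen_le bj)).trans (le_of_eq ?_)
    rw [FModLib.toX_preimage]
    show W = (Opens.map (𝔜.gInv h 0)).obj W
    rw [FModLib.gInv_zero]
    rfl
  show 𝔜.lvU h j ((𝔜.X 0).basicOpen b0) = (𝔜.X j).basicOpen bj
  refine SetLike.coe_injective ((Sys.toX_surjective 𝔜 h j).preimage_injective ?_)
  exact congrArg (fun O : (𝔜.X 0).Opens => (O : Set (𝔜.X 0))) ((FModLib.toX_preimage h j _).trans h1)

theorem lvU_zero (W : (𝔜.X 0).Opens) : 𝔜.lvU h 0 W = W := by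
  show (Opens.map (𝔜.gInv h 0)).obj W = W
  rw [FModLib.gInv_zero]
  rfl

include hW in
/-- Sections of a quasi-coherent module of a level extend up to a power. -/
theorem exists_extend_level {j : ℕ} (N : (𝔜.X j).Modules) [Coh.IsQCoh N] {M : ModF 𝔜 h}
    (e : M ≅ (levelMor 𝔜 h j).push.obj N) (b : RSec (𝔜.Osh h) W) {D : (𝔜.X 0).Opens} (hD : D ≤ W)
    (hDb : 𝔜.lvU h j D = (𝔜.X j).basicOpen (show Γ(𝔜.X j, 𝔜.lvU h j W) from (𝔜.OshProj h j).hom.app (op W) b))
    (y : MSec M D) : ∃ (n : ℕ) (y' : MSec M W), mres M hD y' = rres (𝔜.Osh h) hD b ^ n • y := by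
  let bj : Γ(𝔜.X j, 𝔜.lvU h j W) := (𝔜.OshProj h j).hom.app (op W) b
  let P := N.presheaf
  let i := eqToHom (congrArg op hDb)
  let s : Γ(N, 𝔜.lvU h j D) := e.hom.val.app (op D) y
  obtain ⟨n, t, ht⟩ := (QCohLib.localizingAt_of_isQCoh (FModLib.isAffineOpen_lvU h hW j) N bj).exists_extend (P.map i s)
  refine ⟨n, e.inv.val.app (op W) (show MSec ((levelMor 𝔜 h j).push.obj N) W from t), ?_⟩
  refine (PresheafOfModules.naturality_apply e.inv.val (homOfLE hD).op _).symm.trans ?_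
  have h1 : mres ((levelMor 𝔜 h j).push.obj N) hD t = rres (𝔜.Osh h) hD b ^ n • e.hom.val.app (op D) y := by
    show P.map ((Opens.map (𝔜.gInv h j)).map (homOfLE hD)).op t = _
    have h2 := congrArg (P.map (homOfLE hDb.le).op) ht
    rw [← P.map_comp_apply, Scheme.Modules.map_smul, map_pow] at h2
    refine (congr($(congrArg P.map (Subsingleton.elim _ _)) t)).trans (h2.trans ?_)
    show _ = (show Γ(𝔜.X j, 𝔜.lvU h j D) from (𝔜.OshProj h j).hom.app (op D) (rres (𝔜.Osh h) hD b ^ n)) • s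
    refine Eq.trans ?_ (congrArg (fun z : Γ(𝔜.X j, 𝔜.lvU h j D) => z • s) (map_pow _ _ n)).symm
    refine congrArg₂ (fun a c => a ^ n • c) ?_ ?_
    · refine ((𝔜.X j).presheaf.map_comp_apply _ _ bj).symm.trans ?_
      refine Eq.trans ?_ (congr($((𝔜.OshProj h j).hom.naturality (homOfLE hD).op) b)).symm
      exact congr($(congrArg (𝔜.X j).presheaf.map (Subsingleton.elim _ _)) bj)
    · refine (P.map_comp_apply _ _ s).symm.trans ?_
      exact (congr($(congrArg P.map (Subsingleton.elim _ (𝟙 _))) s)).trans (congr($(P.map_id _) s))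
  refine (congrArg (e.inv.val.app (op D)) h1).trans ((map_smul (e.inv.val.app (op D)).hom _ _).trans ?_)
  exact congrArg (fun z => _ • z) congr($(congrArg (fun a : M ⟶ M => a.val.app (op D)) e.hom_inv_id) y)

end Levels

section ML

variable {𝔛 𝔜 : Sys.{u}} (φ : 𝔛 ⟶ 𝔜) (hloc : 𝔛.IsLocNoethFormal) (h𝔜 : 𝔜.IsLocNoethFormal)
  [HasInjectiveResolutions (ModF 𝔛 hloc.1)] (𝔉 : ModF 𝔛 hloc.1) (q : ℕ)

/-- The transition maps on sections. -/
def secT (W : (𝔜.X 0).Opens) (k : ℕ) :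
    MSec (rG φ hloc h𝔜.1 𝔉 q (k + 1)) W →+ MSec (rG φ hloc h𝔜.1 𝔉 q k) W :=
  ((rT φ hloc h𝔜.1 𝔉 q k).val.app (op W)).hom.toAddMonoidHom

/-- Composite transition maps on sections. -/
abbrev compS (W : (𝔜.X 0).Opens) (k L : ℕ) :
    MSec (rG φ hloc h𝔜.1 𝔉 q (k + L)) W →+ MSec (rG φ hloc h𝔜.1 𝔉 q k) W :=
  FModLib.comp (M := fun k => MSec (rG φ hloc h𝔜.1 𝔉 q k) W) (secT φ hloc h𝔜 𝔉 q W) k L

variable {φ hloc h𝔜 𝔉}

theorem comp_secT_smul {W : (𝔜.X 0).Opens} (a : RSec (𝔜.Osh h𝔜.1) W) (k : ℕ) : ∀ (L : ℕ)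
    (x : MSec (rG φ hloc h𝔜.1 𝔉 q (k + L)) W),
    compS φ hloc h𝔜 𝔉 q W k L (a • x) = a • compS φ hloc h𝔜 𝔉 q W k L x
  | 0, _ => rfl
  | L + 1, x => (congrArg (compS φ hloc h𝔜 𝔉 q W k L)
      (map_smul ((rT φ hloc h𝔜.1 𝔉 q (k + L)).val.app (op W)).hom a x)).trans (comp_secT_smul a k L _)

theorem comp_secT_mres {W W' : (𝔜.X 0).Opens} (hWW : W' ≤ W) (k : ℕ) : ∀ (L : ℕ)
    (x : MSec (rG φ hloc h𝔜.1 𝔉 q (k + L)) W),
    compS φ hloc h𝔜 𝔉 q W' k L (mres _ hWW x) =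
      mres _ hWW (compS φ hloc h𝔜 𝔉 q W k L x)
  | 0, _ => rfl
  | L + 1, x => (congrArg (compS φ hloc h𝔜 𝔉 q W' k L)
      (PresheafOfModules.naturality_apply (rT φ hloc h𝔜.1 𝔉 q (k + L)).val (homOfLE hWW).op x)).trans
        (comp_secT_mres hWW k L _)

variable (hf : IsProperHom φ) (h𝔉 : IsCohF 𝔛 hloc.1 𝔉)

include hf h𝔉

theorem stable_secT {W : (𝔜.X 0).Opens} (hW : IsAffineOpen W) : FModLib.Stable (M := fun k => MSec (rG φ hloc h𝔜.1 𝔉 q k) W) (secT φ hloc h𝔜 𝔉 q W) := by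
  let T := fun k => AddEquiv.ofBijective (th φ hloc h𝔜.1 q
      ((levelMor 𝔛 hloc.1 k).push.obj ((levelMor 𝔛 hloc.1 k).pull.obj 𝔉)) W)
    (theta_bijective _ _ q _ W fun j _ m => levAc hloc h𝔜 hf 𝔉 h𝔉 W hW k j m)
  refine stable_of_bijective (fun k => (T k).symm.toAddMonoidHom) (fun k => (T k).symm.bijective) (fun k x => ?_)
    (levStable φ hloc h𝔜 hf 𝔉 h𝔉 W hW q)
  refine (T k).injective (((T k).apply_symm_apply _).trans ?_)
  refine Eq.trans ?_ (theta_natural _ _ q _ W (levelTrans 𝔛 hloc.1 𝔉 k) ((T (k + 1)).symm x))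
  exact congrArg _ ((T (k + 1)).apply_symm_apply x).symm

theorem exists_levelIso (j : ℕ) : ∃ N : (𝔜.X j).Modules, Coh.IsQCoh N ∧
    Nonempty (rG φ hloc h𝔜.1 𝔉 q j ≅ (levelMor 𝔜 h𝔜.1 j).push.obj N) := by
  haveI := hf.2
  haveI : IsProper ((φ : Hom 𝔛 𝔜).app j) := FComplLib.isProper_app φ h𝔜 hf.1 j
  haveI : Coh.IsQCoh ((levelMor 𝔛 hloc.1 j).pull.obj 𝔉) := (FModLib.isCoh_lev hloc.1 𝔉 h𝔉 j).1
  exact ⟨_, RpushLib.isQCoh_Rpush _ _ q, nonempty_rpush_level_iso φ hloc.1 h𝔜.1 j _ q⟩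

/-- Stable images over an affine open give stable images near each of its points. -/
theorem exists_local_stable {W : (𝔜.X 0).Opens} (hW : IsAffineOpen W) (k : ℕ) :
    ∃ e, ∀ L, e ≤ L → ∀ (V : (𝔜.X 0).Opens) (y : MSec (rG φ hloc h𝔜.1 𝔉 q (k + L)) V) (p : 𝔜.X 0), p ∈ V → p ∈ W →
      ∃ (D : (𝔜.X 0).Opens) (hD : D ≤ V) (z : MSec (rG φ hloc h𝔜.1 𝔉 q (k + (L + 1))) D), p ∈ D ∧
        compS φ hloc h𝔜 𝔉 q D k (L + 1) z =
          mres _ hD (compS φ hloc h𝔜 𝔉 q V k L y) := by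
  obtain ⟨e, he⟩ := stable_secT q hf h𝔉 hW k
  refine ⟨e, fun L hL V y p hpV hpW => ?_⟩
  have h := h𝔜.1
  have hW0 := FModLib.isAffineOpen_lvU h hW 0
  obtain ⟨g0, hg0V, hpg⟩ := hW0.exists_basicOpen_le (V := V) ⟨p, hpV⟩ ((lvU_zero h W).symm ▸ hpW)
  obtain ⟨b, hb⟩ := oProj_surjective h hW 0 g0
  let D := (𝔜.X 0).basicOpen g0
  have hDW : D ≤ W := ((𝔜.X 0).basicOpen_le g0).trans (lvU_zero h W).le
  have hDb : ∀ j, 𝔜.lvU h j D =
      (𝔜.X j).basicOpen (show Γ(𝔜.X j, 𝔜.lvU h j W) from (𝔜.OshProj h j).hom.app (op W) b) := fun j => by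
    refine Eq.trans ?_ (lvU_basicOpen h hW b j)
    exact congrArg (fun g => 𝔜.lvU h j ((𝔜.X 0).basicOpen g)) hb.symm
  have hDaff : IsAffineOpen D := hW0.basicOpen g0
  obtain ⟨N, hN, ⟨ι⟩⟩ := exists_levelIso (h𝔜 := h𝔜) q hf h𝔉 (k + L)
  obtain ⟨n, y', hy'⟩ := exists_extend_level h hW N ι b hDW (hDb (k + L)) (mres _ hg0V y)
  obtain ⟨y'', hy''⟩ := he L hL y'
  let c := rres (𝔜.Osh h) hDW b
  have hc : IsUnit c := isUnit_of_levels h hDaff c fun j => by
    have hu := RingedSpace.isUnit_res_basicOpen (𝔜.X j).toLocallyRingedSpace.toRingedSpace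
      (show Γ(𝔜.X j, 𝔜.lvU h j W) from (𝔜.OshProj h j).hom.app (op W) b)
    let r := (𝔜.X j).presheaf.map (homOfLE (hDb j).le).op
    have h2 := hu.map r.hom
    refine (congrArg IsUnit ?_).mp h2
    refine ((𝔜.X j).presheaf.map_comp_apply _ _ _).symm.trans ?_
    refine Eq.trans ?_ (congr($((𝔜.OshProj h j).hom.naturality (homOfLE hDW).op) b)).symm
    exact congr($(congrArg (𝔜.X j).presheaf.map (Subsingleton.elim _ _))
      (show Γ(𝔜.X j, 𝔜.lvU h j W) from (𝔜.OshProj h j).hom.app (op W) b))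
  obtain ⟨c', hc'⟩ := (hc.pow n).exists_left_inv
  refine ⟨D, hg0V, c' • mres _ hDW y'', hpg, ?_⟩
  refine (comp_secT_smul q c' k (L + 1) _).trans ?_
  refine (congrArg (fun z => c' • z) ((comp_secT_mres q hDW k (L + 1) y'').trans
    ((congrArg (mres _ hDW) hy'').trans ((comp_secT_mres q hDW k L y').symm.trans
      ((congrArg (compS φ hloc h𝔜 𝔉 q D k L) hy').trans (comp_secT_smul (h𝔜 := h𝔜) q (c ^ n) k L (mres (rG φ hloc h𝔜.1 𝔉 q (k + L)) hg0V y))))))).trans ?_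
  refine (smul_smul _ _ _).trans ((congrArg (fun a => a • compS φ hloc h𝔜 𝔉 q D k L (mres _ hg0V y))
    hc').trans ((one_smul _ _).trans (comp_secT_mres q hg0V k L y)))

/-- **Mittag-Leffler for the higher direct images of the levels.** -/
theorem isML_rpush [CompactSpace (𝔜.X 0)] :
    ARSys.IsML (Functor.ofOpSequence (X := rG φ hloc h𝔜.1 𝔉 q) (rT φ hloc h𝔜.1 𝔉 q)) := by
  let G : ℕᵒᵖ ⥤ ModF 𝔜 h𝔜.1 := Functor.ofOpSequence (X := rG φ hloc h𝔜.1 𝔉 q) (rT φ hloc h𝔜.1 𝔉 q)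
  show ARSys.IsML G
  have hshift : ∀ k L (V : (𝔜.X 0).Opens) (y : MSec (rG φ hloc h𝔜.1 𝔉 q (k + L)) V),
      (ARSys.shiftMap G L k).val.app (op V) y = compS φ hloc h𝔜 𝔉 q V k L y := by
    intro k L
    induction L with
    | zero =>
      intro V y
      exact congr($(congrArg (fun a : G.obj (op k) ⟶ G.obj (op k) => a.val.app (op V)) (G.map_id (op k))) y)
    | succ L ih =>
      intro V y
      have e : ARSys.shiftMap G (L + 1) k = G.map (homOfLE (Nat.le_add_right (k + L) 1)).op ≫ ARSys.shiftMap G L k :=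
        (congrArg G.map (Subsingleton.elim _ _)).trans (G.map_comp _ _)
      refine (congr($(congrArg (fun a : G.obj (op (k + L + 1)) ⟶ G.obj (op k) => a.val.app (op V)) e) y)).trans ?_
      refine Eq.trans ?_ (ih V _)
      refine congrArg ((ARSys.shiftMap G L k).val.app (op V)) ?_
      exact congr($(congrArg (fun a : G.obj (op (k + L + 1)) ⟶ G.obj (op (k + L)) => a.val.app (op V))
        (Functor.ofOpSequence_map_homOfLE_succ (rT φ hloc h𝔜.1 𝔉 q) (k + L))) y)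
  have hcov : ∀ p : 𝔜.X 0, ∃ W : (𝔜.X 0).affineOpens, p ∈ W.1 := fun p =>
    (Opens.mem_iSup.1 ((iSup_affineOpens_eq_top (𝔜.X 0)).symm ▸ Opens.mem_top p))
  obtain ⟨t, ht⟩ := isCompact_univ.elim_finite_subcover (fun W : (𝔜.X 0).affineOpens => (W.1 : Set (𝔜.X 0)))
    (fun W => W.1.2) (fun p _ => Set.mem_iUnion.2 (hcov p))
  intro k
  choose e he using fun W : (𝔜.X 0).affineOpens => exists_local_stable q hf h𝔉 W.2 k
  have step : ∀ L, t.sup e ≤ L → ∀ (V : (𝔜.X 0).Opens) (y : MSec (rG φ hloc h𝔜.1 𝔉 q (k + L)) V) (p : 𝔜.X 0), p ∈ V →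
      ∃ (D : (𝔜.X 0).Opens) (hD : D ≤ V) (z : MSec (rG φ hloc h𝔜.1 𝔉 q (k + (L + 1))) D), p ∈ D ∧
        compS φ hloc h𝔜 𝔉 q D k (L + 1) z =
          mres _ hD (compS φ hloc h𝔜 𝔉 q V k L y) := fun L hL V y p hp => by
    obtain ⟨W, hWt, hpW⟩ := Set.mem_iUnion₂.1 (ht (Set.mem_univ p))
    exact he W L ((Finset.le_sup hWt).trans hL) V y p hp hpW
  refine ⟨t.sup e, fun s hs => ?_⟩
  have hle : ∀ L L', L ≤ L' → imageSubobject (ARSys.shiftMap G L' k) ≤ imageSubobject (ARSys.shiftMap G L k) := by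
    intro L L' hL
    rw [show ARSys.shiftMap G L' k = G.map (homOfLE (Nat.add_le_add_left hL k)).op ≫ ARSys.shiftMap G L k from
      (congrArg G.map (Subsingleton.elim _ _)).trans (G.map_comp _ _)]
    exact imageSubobject_comp_le _ _
  refine le_antisymm (hle _ s hs) ?_
  let π := cokernel.π (imageSubobject (ARSys.shiftMap G s k)).arrow
  have h0 : ARSys.shiftMap G s k ≫ π = 0 :=
    (congrArg (fun a => a ≫ π) (imageSubobject_arrow_comp (ARSys.shiftMap G s k)).symm).trans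
      ((Category.assoc _ _ _).trans ((congrArg (fun a => _ ≫ a) (cokernel.condition _)).trans comp_zero))
  have key : ∀ d L, t.sup e ≤ L → L + d = s → ARSys.shiftMap G L k ≫ π = 0 := by
    intro d
    induction d with
    | zero => intro L _ hLs; obtain rfl : L = s := hLs; exact h0
    | succ d ih =>
      intro L hL hLs
      have h1 := ih (L + 1) (Nat.le_succ_of_le hL) (by omega)
      refine SheafOfModules.hom_ext (PresheafOfModules.hom_ext fun V => ModuleCat.hom_ext (LinearMap.ext fun y => ?_))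
      refine FCohLib.eq_zero_of_points _ (V := V.unop) _ fun p hp => ?_
      obtain ⟨D, hD, z, hpD, hz⟩ := step L hL V.unop y p hp
      refine ⟨D, hD, hpD, ?_⟩
      refine (PresheafOfModules.naturality_apply π.val (homOfLE hD).op
        ((ARSys.shiftMap G L k).val.app (op V.unop) y)).symm.trans ?_
      refine (congrArg (π.val.app (op D)) (((congrArg (mres _ hD) (hshift k L V.unop y)).trans hz.symm).trans
        (hshift k (L + 1) D z).symm)).trans ?_
      exact congr($(congrArg (fun a : G.obj (op (k + (L + 1))) ⟶ _ => a.val.app (op D)) h1) z)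
  exact imageSubobject_le _ (Abelian.monoLift _ _ (key (s - t.sup e) _ le_rfl (Nat.add_sub_cancel' hs))) (Abelian.monoLift_comp _ _ _)

end ML

end FRpushLib

end
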