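import Groth.Agent.FRpushLib.Graded
import Groth.Agent.FRpushLib.ThetaSmul
import Groth.Agent.FRpushLib.MLSheaf

/-!
# Sections over an affine open of the limit of the higher direct images of the levels
-/

set_option autoImplicit false
set_option linter.style.haveILetI false
set_option linter.unusedSectionVars false
set_option maxHeartbeats 800000
set_option synthInstance.maxHeartbeats 80000

universe u

open CategoryTheory CategoryTheory.Limits AlgebraicGeometry TopologicalSpace Opposite FSch CategoryTheory.Abelian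
open FModLib (MSec RSec mres rres oK towG towT)
open QCohLib (HU)

noncomputable section

namespace FRpushLib

/-- An element of all images comes from a compatible family. -/
theorem exists_family_of_inAll {M : ℕ → Type*} [∀ k, AddCommGroup (M k)] {t : ∀ k, M (k + 1) →+ M k}
    (ht : FModLib.Stable t) (k₀ : ℕ) {x : M k₀} (hx : FModLib.InAll t k₀ x) :
    ∃ y : ∀ k, M k, (∀ k, t k (y (k + 1)) = y k) ∧ y k₀ = x := by
  classical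
  choose lift hlift hlift' using fun k (x : {x : M k // FModLib.InAll t k x}) => FModLib.exists_inAll_lift ht k x.2
  let U : ∀ L, {x : M (k₀ + L) // FModLib.InAll t (k₀ + L) x} := fun L =>
    Nat.rec ⟨x, hx⟩ (fun L y => ⟨lift (k₀ + L) y, hlift (k₀ + L) y⟩) L
  let w : ∀ k, M k := fun k => FModLib.comp t k k₀ (FModLib.cast' (Nat.add_comm k₀ k) (U k).1)
  refine ⟨w, fun k => ?_, ?_⟩
  · have h : t (k₀ + k) (U (k + 1)).1 = (U k).1 := hlift' (k₀ + k) (U k)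
    show t k (FModLib.comp t (k + 1) k₀ _) = _
    rw [FModLib.comp_succ']
    show _ = FModLib.comp t k k₀ (FModLib.cast' (Nat.add_comm k₀ k) (U k).1)
    rw [← h, FModLib.t_cast' t]
    show FModLib.comp t k k₀ (t (k + k₀) _) = _
    refine congrArg (fun z => FModLib.comp t k k₀ (t (k + k₀) z)) ?_
    have key : ∀ {a b c : ℕ} (h1 : a = b) (h2 : b = c) (z : M a),
        FModLib.cast' h2 (FModLib.cast' h1 z) = FModLib.cast' (h1.trans h2) z := by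
      intro a b c h1 h2 z
      subst h1; subst h2; rfl
    exact key _ _ _
  · have key : ∀ L, FModLib.comp t k₀ L (U L).1 = x := fun L => by
      induction L with
      | zero => rfl
      | succ L ih => exact (congrArg (FModLib.comp t k₀ L) (hlift' (k₀ + L) (U L))).trans ih
    exact key k₀

variable {𝔜 : Sys.{u}} (h𝔜 : 𝔜.IsLocNoethFormal) {W : (𝔜.X 0).Opens} (hW : IsAffineOpen W)
  (J : Ideal (FModLib.secSys h𝔜.1 W hW).lim)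
  (hsurj : ∀ n, Function.Surjective ((FModLib.secSys h𝔜.1 W hW).proj n))
  (hJ : ∀ n, RingHom.ker ((FModLib.secSys h𝔜.1 W hW).proj n) = J ^ (n + 1))
  {𝔛 : Sys.{u}} (φ : 𝔛 ⟶ 𝔜) (hloc : 𝔛.IsLocNoethFormal) (hφ : IsProperHom φ)

/-- The adic system over the affine open. -/
abbrev thickW : GrSysLib.Thick (FModLib.secSys h𝔜.1 W hW).lim J :=
  FModLib.thick J (overAff h𝔜.1 W hW J hsurj hJ φ hloc.1) (isProperHom_overAff h𝔜.1 W hW J hsurj hJ φ hloc.1 hφ)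

theorem toGlobal_thickW (k : ℕ) (a : (FModLib.secSys h𝔜.1 W hW).lim) :
    Coh.toGlobal ((thickW h𝔜 hW J hsurj hJ φ hloc hφ).X k ↘ Spec (CommRingCat.of (FModLib.secSys h𝔜.1 W hW).lim)) a =
      (𝔛.lvU hloc.1 k ((φ : Hom 𝔛 𝔜).app 0 ⁻¹ᵁ W)).topIso.inv
        (((φ : Hom 𝔛 𝔜).app k).appLE (𝔜.lvU h𝔜.1 k W) (𝔛.lvU hloc.1 k ((φ : Hom 𝔛 𝔜).app 0 ⁻¹ᵁ W))
          (Hom.lvU_preimage φ hloc.1 h𝔜.1 k W).ge ((FModLib.secSys h𝔜.1 W hW).proj k a)) := by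
  let hU := FModLib.isAffineOpen_lvU h𝔜.1 hW k
  let res := ((φ : Hom 𝔛 𝔜).app k).resLE (𝔜.lvU h𝔜.1 k W) (𝔛.lvU hloc.1 k ((φ : Hom 𝔛 𝔜).app 0 ⁻¹ᵁ W))
    (Hom.lvU_preimage φ hloc.1 h𝔜.1 k W).ge
  let pr : CommRingCat.of (FModLib.secSys h𝔜.1 W hW).lim ⟶ Γ(𝔜.X k, 𝔜.lvU h𝔜.1 k W) :=
    CommRingCat.ofHom ((FModLib.secSys h𝔜.1 W hW).proj k)
  have e : ((thickW h𝔜 hW J hsurj hJ φ hloc hφ).X k ↘ Spec (CommRingCat.of (FModLib.secSys h𝔜.1 W hW).lim)) =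
      res ≫ hU.isoSpec.hom ≫ Spec.map pr := by
    show (res ≫ hU.isoSpec.hom ≫ Spec.map (CommRingCat.ofHom _)) ≫ Spec.map (CommRingCat.ofHom _) = _
    rw [Category.assoc, Category.assoc, ← Spec.map_comp]
    exact congrArg (fun z => res ≫ hU.isoSpec.hom ≫ Spec.map z) (CommRingCat.hom_ext (RingHom.ext fun _ => rfl))
  rw [e]
  show (res ≫ hU.isoSpec.hom ≫ Spec.map pr).appTop ((Scheme.ΓSpecIso _).inv a) = _
  rw [Scheme.Hom.comp_appTop, Scheme.Hom.comp_appTop, hU.isoSpec_hom_appTop]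
  show res.appTop ((𝔜.lvU h𝔜.1 k W).topIso.inv ((Scheme.ΓSpecIso _).hom
    ((Spec.map pr).appTop ((Scheme.ΓSpecIso _).inv a)))) = _
  rw [show (Spec.map pr).appTop ((Scheme.ΓSpecIso _).inv a) = (Scheme.ΓSpecIso _).inv (pr a) from
    (congr($(Scheme.ΓSpecIso_inv_naturality pr) a)).symm, Iso.inv_hom_id_apply]
  show (((φ : Hom 𝔛 𝔜).app k).resLE _ _ _).app ⊤ _ = _
  rw [Scheme.Hom.resLE_app_top]
  exact congrArg (fun z => (𝔛.lvU hloc.1 k _).topIso.inv (((φ : Hom 𝔛 𝔜).app k).appLE _ _ _ z))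
    (Iso.inv_hom_id_apply (𝔜.lvU h𝔜.1 k W).topIso (pr a))

theorem le_lvU_top (k : ℕ) (U : (𝔛.X 0).Opens) (O : ((𝔛.lvU hloc.1 k U : Scheme.{u})).Opens) :
    (𝔛.lvU hloc.1 k U).ι ''ᵁ O ≤ 𝔛.lvU hloc.1 k U :=
  (Scheme.Hom.image_mono _ le_top).trans (𝔛.lvU hloc.1 k U).ι_image_top.le

theorem smulMod_levR (𝔉 : ModF 𝔛 hloc.1) (k : ℕ) (a : (FModLib.secSys h𝔜.1 W hW).lim)
    (O : ((thickW h𝔜 hW J hsurj hJ φ hloc hφ).X k).Opens)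
    (x : (FModLib.lev hloc.1 𝔉 k).presheaf.obj
      (op ((𝔛.lvU hloc.1 k ((φ : Hom 𝔛 𝔜).app 0 ⁻¹ᵁ W)).ι ''ᵁ O))) :
    (Formal.smulMod (X := (thickW h𝔜 hW J hsurj hJ φ hloc hφ).X k) (FModLib.secSys h𝔜.1 W hW).lim
      (levR 𝔛 hloc.1 ((φ : Hom 𝔛 𝔜).app 0 ⁻¹ᵁ W) 𝔉 k) a).app O x =
      (show (FModLib.lev hloc.1 𝔉 k).presheaf.obj (op _) from
        (show Γ(𝔛.X k, (𝔛.lvU hloc.1 k ((φ : Hom 𝔛 𝔜).app 0 ⁻¹ᵁ W)).ι ''ᵁ O) from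
          (𝔛.X k).presheaf.map (homOfLE (le_lvU_top hloc k _ O)).op
            (((φ : Hom 𝔛 𝔜).app k).appLE (𝔜.lvU h𝔜.1 k W) (𝔛.lvU hloc.1 k ((φ : Hom 𝔛 𝔜).app 0 ⁻¹ᵁ W))
              (Hom.lvU_preimage φ hloc.1 h𝔜.1 k W).ge ((FModLib.secSys h𝔜.1 W hW).proj k a))) • x) := by
  let U := (φ : Hom 𝔛 𝔜).app 0 ⁻¹ᵁ W
  let y := ((φ : Hom 𝔛 𝔜).app k).appLE (𝔜.lvU h𝔜.1 k W) (𝔛.lvU hloc.1 k U)
    (Hom.lvU_preimage φ hloc.1 h𝔜.1 k W).ge ((FModLib.secSys h𝔜.1 W hW).proj k a)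
  have h1 : ((𝔛.lvU hloc.1 k U).ι.appIso O).inv
      (Coh.resTop ((𝔛.lvU hloc.1 k U : Scheme.{u})) (op O) ((𝔛.lvU hloc.1 k U).topIso.inv y)) =
        (𝔛.X k).presheaf.map (homOfLE (le_lvU_top hloc k U O)).op y := by
    rw [Scheme.Opens.ι_appIso, Iso.refl_inv]
    show (𝔛.lvU hloc.1 k U : Scheme.{u}).presheaf.map _ ((𝔛.X k).presheaf.map _ y) = _
    exact ((𝔛.X k).presheaf.map_comp_apply _ _ y).symm.trans
      (congr($(congrArg (𝔛.X k).presheaf.map (Subsingleton.elim _ _)) y))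
  refine Eq.trans ?_ (congrArg (fun c : Γ(𝔛.X k, (𝔛.lvU hloc.1 k U).ι ''ᵁ O) => c • x) h1)
  rw [← toGlobal_thickW h𝔜 hW J hsurj hJ φ hloc hφ k a]
  rfl

section Finite

variable [HasInjectiveResolutions (ModF 𝔛 hloc.1)] (𝔉 : ModF 𝔛 hloc.1) (q : ℕ)

/-- Cohomology of a level on the open, to the common space of the open. -/
def bU {U : (𝔛.X 0).Opens} (n k : ℕ) : HU (towG hloc 𝔉 k) n U →+
    Sheaf.H ((FModLib.phi (formal_restrictOpen 𝔛 hloc.1 U) k).obj (levR 𝔛 hloc.1 U 𝔉 k)) n :=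
  ((QCohLib.hEquiv (X := ((𝔛.restrictOpen hloc.1 U).X 0).toTopCat) _ n).symm.toAddMonoidHom.comp
    ((Ext.mk₀ (thetaR hloc U 𝔉 k).inv).postcomp _ (add_zero n))).comp
    (restrU (𝔛.lvU hloc.1 0 U).ι (image_top_eq 𝔛 hloc.1 U).symm (towG hloc 𝔉 k) n)

theorem hEquiv_bU {U : (𝔛.X 0).Opens} (n k : ℕ) (x : HU (towG hloc 𝔉 k) n U) :
    QCohLib.hEquiv (X := ((𝔛.restrictOpen hloc.1 U).X 0).toTopCat) _ n (bU hloc 𝔉 n k x) =
      (restrU (𝔛.lvU hloc.1 0 U).ι (image_top_eq 𝔛 hloc.1 U).symm (towG hloc 𝔉 k) n x).comp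
        (Ext.mk₀ (thetaR hloc U 𝔉 k).inv) (add_zero n) :=
  AddEquiv.apply_symm_apply _ _

theorem comp_inv_injective {U : (𝔛.X 0).Opens} (n k : ℕ)
    (y z : HU ((QCohLib.restrAb (𝔛.lvU hloc.1 0 U).ι).obj (towG hloc 𝔉 k)) n (⊤ : ((𝔛.lvU hloc.1 0 U : Scheme.{u})).Opens))
    (h : y.comp (Ext.mk₀ (thetaR hloc U 𝔉 k).inv) (add_zero n) = z.comp (Ext.mk₀ (thetaR hloc U 𝔉 k).inv) (add_zero n)) :
    y = z := by
  have e : ∀ w : HU ((QCohLib.restrAb (𝔛.lvU hloc.1 0 U).ι).obj (towG hloc 𝔉 k)) n (⊤ : ((𝔛.lvU hloc.1 0 U : Scheme.{u})).Opens),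
      (w.comp (Ext.mk₀ (thetaR hloc U 𝔉 k).inv) (add_zero n)).comp (Ext.mk₀ (thetaR hloc U 𝔉 k).hom) (add_zero n) = w :=
    fun w => (Ext.comp_assoc_of_second_deg_zero _ _ _ _).trans ((congrArg (fun z => Ext.comp w z (add_zero n))
      ((Ext.mk₀_comp_mk₀ _ _).trans (congrArg Ext.mk₀ (thetaR hloc U 𝔉 k).inv_hom_id))).trans w.comp_mk₀_id)
  rw [← e y, h, e z]

theorem bU_bijective {U : (𝔛.X 0).Opens} (n k : ℕ) : Function.Bijective (bU hloc 𝔉 (U := U) n k) := by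
  refine ((QCohLib.hEquiv (X := ((𝔛.restrictOpen hloc.1 U).X 0).toTopCat) _ n).symm.bijective.comp ?_).comp
    (restrU_bijective (𝔛.lvU hloc.1 0 U).ι (image_top_eq 𝔛 hloc.1 U).symm (towG hloc 𝔉 k) n)
  refine ⟨comp_inv_injective hloc 𝔉 n k, fun y => ⟨y.comp (Ext.mk₀ (thetaR hloc U 𝔉 k).hom) (add_zero n), ?_⟩⟩
  show Ext.comp (Ext.comp y (Ext.mk₀ (thetaR hloc U 𝔉 k).hom) (add_zero n)) (Ext.mk₀ (thetaR hloc U 𝔉 k).inv) (add_zero n) = y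
  rw [Ext.comp_assoc_of_second_deg_zero, Ext.mk₀_comp_mk₀, Iso.hom_inv_id]
  exact y.comp_mk₀_id

/-- The tower on the open. -/
abbrev ddW (k : ℕ) := FModLib.dd (FModLib.real (formal_restrictOpen 𝔛 hloc.1 ((φ : Hom 𝔛 𝔜).app 0 ⁻¹ᵁ W)) J
  (overAff h𝔜.1 W hW J hsurj hJ φ hloc.1) (isProperHom_overAff h𝔜.1 W hW J hsurj hJ φ hloc.1 hφ))
  (levR 𝔛 hloc.1 ((φ : Hom 𝔛 𝔜).app 0 ⁻¹ᵁ W) 𝔉) (psiR 𝔛 hloc.1 ((φ : Hom 𝔛 𝔜).app 0 ⁻¹ᵁ W) 𝔉) k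

theorem bU_towT (k : ℕ) (x : HU (towG hloc 𝔉 (k + 1)) q ((φ : Hom 𝔛 𝔜).app 0 ⁻¹ᵁ W)) :
    bU hloc 𝔉 q k (x.comp (Ext.mk₀ (towT hloc 𝔉 k)) (add_zero q)) =
      Sheaf.H.map (ddW h𝔜 hW J hsurj hJ φ hloc hφ 𝔉 k) q (bU hloc 𝔉 q (k + 1) x) := by
  let U := (φ : Hom 𝔛 𝔜).app 0 ⁻¹ᵁ W
  refine (QCohLib.hEquiv _ q).injective ?_
  refine ((hEquiv_bU hloc 𝔉 q k _).trans ?_).trans (QCohLib.hEquiv_map _ q (bU hloc 𝔉 q (k + 1) x)).symm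
  refine Eq.trans ?_ (congrArg (fun z => Ext.comp z (Ext.mk₀ (ddW h𝔜 hW J hsurj hJ φ hloc hφ 𝔉 k)) (add_zero q))
    (hEquiv_bU hloc 𝔉 q (k + 1) x)).symm
  refine (congrArg (fun z => Ext.comp z _ _) (restrU_natural (𝔛.lvU hloc.1 0 U).ι (image_top_eq 𝔛 hloc.1 U).symm (towT hloc 𝔉 k) q x)).trans ?_
  refine (Ext.comp_assoc_of_second_deg_zero ..).trans (Eq.trans ?_ (Ext.comp_assoc_of_second_deg_zero ..).symm)
  refine congrArg (fun z => Ext.comp _ z _) ?_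
  refine (Ext.mk₀_comp_mk₀ _ _).trans (Eq.trans ?_ (Ext.mk₀_comp_mk₀ _ _).symm)
  refine congrArg Ext.mk₀ ?_
  rw [Iso.eq_inv_comp, ← Category.assoc, Iso.comp_inv_eq]
  exact (dd_thetaR hloc U 𝔉 J _ _ k).symm

/-- The comparison of a level with the cohomology over the open, as an isomorphism. -/
def thW (h𝔉 : IsCohF 𝔛 hloc.1 𝔉) (k : ℕ) :
    HU (towG hloc 𝔉 k) q ((φ : Hom 𝔛 𝔜).app 0 ⁻¹ᵁ W) ≃+ MSec (rG φ hloc h𝔜.1 𝔉 q k) W :=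
  AddEquiv.ofBijective (th φ hloc h𝔜.1 q ((levelMor 𝔛 hloc.1 k).push.obj ((levelMor 𝔛 hloc.1 k).pull.obj 𝔉)) W)
    (theta_bijective _ _ q _ W fun j _ m => levAc hloc h𝔜 hφ 𝔉 h𝔉 W hW k j m)

/-- The module of compatible sections. -/
abbrev LW : Type u := MSec (limit (Functor.ofOpSequence (X := rG φ hloc h𝔜.1 𝔉 q) (rT φ hloc h𝔜.1 𝔉 q))) W

/-- The projection to a level of the limit. -/
abbrev piL (k : ℕ) : LW h𝔜 φ hloc 𝔉 q (W := W) →+ MSec (rG φ hloc h𝔜.1 𝔉 q k) W :=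
  ((limit.π (Functor.ofOpSequence (X := rG φ hloc h𝔜.1 𝔉 q) (rT φ hloc h𝔜.1 𝔉 q)) (op k)).val.app
    (op W)).hom.toAddMonoidHom

theorem piL_smul (k : ℕ) (b : RSec (𝔜.Osh h𝔜.1) W) (x : LW h𝔜 φ hloc 𝔉 q (W := W)) :
    piL h𝔜 φ hloc 𝔉 q k (b • x) = b • piL h𝔜 φ hloc 𝔉 q k x :=
  map_smul ((limit.π (Functor.ofOpSequence (X := rG φ hloc h𝔜.1 𝔉 q) (rT φ hloc h𝔜.1 𝔉 q)) (op k)).val.app
    (op W)).hom b x

theorem smul_thetaR (k : ℕ) (b : RSec (𝔜.Osh h𝔜.1) W) :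
    (FModLib.phi (formal_restrictOpen 𝔛 hloc.1 ((φ : Hom 𝔛 𝔜).app 0 ⁻¹ᵁ W)) k).map
        (Formal.smulMod (X := (thickW h𝔜 hW J hsurj hJ φ hloc hφ).X k) (FModLib.secSys h𝔜.1 W hW).lim
          (levR 𝔛 hloc.1 ((φ : Hom 𝔛 𝔜).app 0 ⁻¹ᵁ W) 𝔉 k) (FModLib.toLim h𝔜.1 W hW b)) ≫
        (thetaR hloc ((φ : Hom 𝔛 𝔜).app 0 ⁻¹ᵁ W) 𝔉 k).hom =
      (thetaR hloc ((φ : Hom 𝔛 𝔜).app 0 ⁻¹ᵁ W) 𝔉 k).hom ≫
        scal (𝔛.lvU hloc.1 0 ((φ : Hom 𝔛 𝔜).app 0 ⁻¹ᵁ W)).ι (image_top_eq 𝔛 hloc.1 _).symm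
          ((levelMor 𝔛 hloc.1 k).push.obj (FModLib.lev hloc.1 𝔉 k))
          ((Hom.sharp φ hloc.1 h𝔜.1).hom.app (op W) b) := by
  let U := (φ : Hom 𝔛 𝔜).app 0 ⁻¹ᵁ W
  refine Sheaf.hom_ext (NatTrans.ext (funext fun V => ConcreteCategory.hom_ext _ _ fun s => ?_))
  obtain ⟨V⟩ := V
  let P := (FModLib.lev hloc.1 𝔉 k).presheaf
  let e := eqToHom (congrArg op (image_lvU 𝔛 hloc.1 U k V))
  let O := (𝔛.restrictOpen hloc.1 U).lvU (formal_restrictOpen 𝔛 hloc.1 U) k V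
  refine (thetaR_app hloc U 𝔉 k V _).trans (Eq.trans ?_
    (congrArg ((scal (𝔛.lvU hloc.1 0 U).ι (image_top_eq 𝔛 hloc.1 U).symm _ _).hom.app (op V))
      (thetaR_app hloc U 𝔉 k V s)).symm)
  let y := ((φ : Hom 𝔛 𝔜).app k).appLE (𝔜.lvU h𝔜.1 k W) (𝔛.lvU hloc.1 k U)
    (Hom.lvU_preimage φ hloc.1 h𝔜.1 k W).ge (oK h𝔜.1 k W b)
  refine (congrArg (P.map e) (smulMod_levR h𝔜 hW J hsurj hJ φ hloc hφ 𝔉 k (FModLib.toLim h𝔜.1 W hW b) O s)).trans ?_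
  refine (Scheme.Modules.map_smul (FModLib.lev hloc.1 𝔉 k) _ _ _).trans ?_
  refine congrArg (fun c : Γ(𝔛.X k, 𝔛.lvU hloc.1 k ((𝔛.lvU hloc.1 0 U).ι ''ᵁ V)) => c •
    (show Γ(FModLib.lev hloc.1 𝔉 k, 𝔛.lvU hloc.1 k ((𝔛.lvU hloc.1 0 U).ι ''ᵁ V)) from P.map e s)) ?_
  refine ((𝔛.X k).presheaf.map_comp_apply _ _ y).symm.trans ?_
  refine Eq.trans ?_ (congr($((𝔛.OshProj hloc.1 k).hom.naturality
    (homOfLE (image_le_of_eq (𝔛.lvU hloc.1 0 U).ι V (image_top_eq 𝔛 hloc.1 U).symm)).op)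
      ((Hom.sharp φ hloc.1 h𝔜.1).hom.app (op W) b))).symm
  refine (congr($(congrArg (𝔛.X k).presheaf.map (Subsingleton.elim _ _)) y)).trans (congrArg _ ?_)
  exact (sharp_level_app φ hloc.1 h𝔜.1 k W b).symm

theorem thW_symm_smul (h𝔉 : IsCohF 𝔛 hloc.1 𝔉) (k : ℕ) (b : RSec (𝔜.Osh h𝔜.1) W)
    (y : MSec (rG φ hloc h𝔜.1 𝔉 q k) W) :
    bU hloc 𝔉 q k ((thW h𝔜 hW φ hloc hφ 𝔉 q h𝔉 k).symm (b • y)) =
      Sheaf.H.map ((FModLib.phi (formal_restrictOpen 𝔛 hloc.1 ((φ : Hom 𝔛 𝔜).app 0 ⁻¹ᵁ W)) k).map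
        (Formal.smulMod (X := (thickW h𝔜 hW J hsurj hJ φ hloc hφ).X k) (FModLib.secSys h𝔜.1 W hW).lim
          (levR 𝔛 hloc.1 ((φ : Hom 𝔛 𝔜).app 0 ⁻¹ᵁ W) 𝔉 k) (FModLib.toLim h𝔜.1 W hW b))) q
        (bU hloc 𝔉 q k ((thW h𝔜 hW φ hloc hφ 𝔉 q h𝔉 k).symm y)) := by
  let U := (φ : Hom 𝔛 𝔜).app 0 ⁻¹ᵁ W
  let E := thW h𝔜 hW φ hloc hφ 𝔉 q h𝔉 k
  obtain ⟨x', hx'⟩ := (bU_bijective hloc 𝔉 q k).2 (Sheaf.H.map
    ((FModLib.phi (formal_restrictOpen 𝔛 hloc.1 U) k).map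
        (Formal.smulMod (X := (thickW h𝔜 hW J hsurj hJ φ hloc hφ).X k) (FModLib.secSys h𝔜.1 W hW).lim
          (levR 𝔛 hloc.1 U 𝔉 k) (FModLib.toLim h𝔜.1 W hW b))) q (bU hloc 𝔉 q k (E.symm y)))
  suffices h : E x' = b • y by rw [← hx', ← h, AddEquiv.symm_apply_apply]
  refine (theta_smul (𝔛.lvU hloc.1 0 U).ι _ _ q _ W (image_top_eq 𝔛 hloc.1 U).symm b (E.symm y) x' ?_).trans
    (congrArg (fun z => b • z) (E.apply_symm_apply y))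
  refine comp_inv_injective hloc 𝔉 q k _ _ ?_
  refine (hEquiv_bU hloc 𝔉 q k x').symm.trans ((congrArg (QCohLib.hEquiv _ q) hx').trans
    ((QCohLib.hEquiv_map _ q _).trans ((congrArg (fun z => Ext.comp z _ (add_zero q)) (hEquiv_bU hloc 𝔉 q k (E.symm y))).trans ?_)))
  refine (Ext.comp_assoc_of_second_deg_zero ..).trans (Eq.trans ?_ (Ext.comp_assoc_of_second_deg_zero ..).symm)
  refine congrArg (fun z => Ext.comp _ z _) ?_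
  refine (Ext.mk₀_comp_mk₀ _ _).trans (Eq.trans ?_ (Ext.mk₀_comp_mk₀ _ _).symm)
  refine congrArg Ext.mk₀ ?_
  rw [Iso.inv_comp_eq, ← Category.assoc, Iso.eq_comp_inv]
  exact smul_thetaR h𝔜 hW J hsurj hJ φ hloc hφ 𝔉 k b

end Finite

set_option maxHeartbeats 4000000 in
include hφ hW in
/-- **Sections of the limit over an affine open: finite, with an adic filtration.** -/
theorem finite_and_bound_sec [HasInjectiveResolutions (ModF 𝔛 hloc.1)] (𝔉 : ModF 𝔛 hloc.1)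
    (h𝔉 : IsCohF 𝔛 hloc.1 𝔉) (q : ℕ) :
    ∃ I : Ideal (RSec (𝔜.Osh h𝔜.1) W), IsNoetherianRing (RSec (𝔜.Osh h𝔜.1) W) ∧
      (∀ k a, oK h𝔜.1 k W a = 0 ↔ a ∈ I ^ (k + 1)) ∧
      Module.Finite (RSec (𝔜.Osh h𝔜.1) W) (LW h𝔜 φ hloc 𝔉 q (W := W)) ∧
      ∃ d, ∀ k (x : LW h𝔜 φ hloc 𝔉 q (W := W)), piL h𝔜 φ hloc 𝔉 q (k + d) x = 0 →
        x ∈ (I ^ (k + 1) • ⊤ : Submodule (RSec (𝔜.Osh h𝔜.1) W) (LW h𝔜 φ hloc 𝔉 q (W := W))) := by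
  obtain ⟨J, hN, hC, hJ⟩ := FModLib.exists_adic_lim h𝔜.1 W hW h𝔜
  have hsurj : ∀ n, Function.Surjective ((FModLib.secSys h𝔜.1 W hW).proj n) := fun n =>
    (FModLib.secSys h𝔜.1 W hW).proj_surjective n
  let A := (FModLib.secSys h𝔜.1 W hW).lim
  let Rg := RSec (𝔜.Osh h𝔜.1) W
  let T : Rg ≃+* A := RingEquiv.ofBijective (FModLib.toLim h𝔜.1 W hW) (FModLib.toLim_bijective h𝔜.1 W hW)
  let M := LW h𝔜 φ hloc 𝔉 q (W := W)
  let _ : Module A M := Module.compHom M T.symm.toRingHom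
  have hsm : ∀ (b : Rg) (x : M), T b • x = b • x := fun b x => congrArg (fun c : Rg => c • x) (T.symm_apply_apply b)
  haveI := hN
  haveI := hC
  let U := (φ : Hom 𝔛 𝔜).app 0 ⁻¹ᵁ W
  let TT := thickW h𝔜 hW J hsurj hJ φ hloc hφ
  let R := FModLib.real (formal_restrictOpen 𝔛 hloc.1 U) J (overAff h𝔜.1 W hW J hsurj hJ φ hloc.1)
    (isProperHom_overAff h𝔜.1 W hW J hsurj hJ φ hloc.1 hφ)
  have hc : ∀ k, Coh.IsCoh (levR 𝔛 hloc.1 U 𝔉 k) := fun k =>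
    CohGenLib.isCoh_restrict (𝔛.lvU hloc.1 k U).ι (FModLib.isCoh_lev hloc.1 𝔉 h𝔉 k)
  haveI : ∀ k, Coh.IsQCoh (X := TT.X k) (levR 𝔛 hloc.1 U 𝔉 k) := fun k => (hc k).1
  obtain ⟨r, a, hspan⟩ := Submodule.fg_iff_exists_fin_generating_family.1 (IsNoetherian.noetherian J)
  let E := thW h𝔜 hW φ hloc hφ 𝔉 q h𝔉
  let π : ∀ k, M →+ FModLib.HR R (levR 𝔛 hloc.1 U 𝔉) q k := fun k =>
    ((bU hloc 𝔉 q k).comp (E k).symm.toAddMonoidHom).comp (piL h𝔜 φ hloc 𝔉 q k)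
  have hπ : ∀ k x, Sheaf.H.map (FModLib.dd R (levR 𝔛 hloc.1 U 𝔉) (psiR 𝔛 hloc.1 U 𝔉) k) q (π (k + 1) x) = π k x := by
    intro k x
    refine (bU_towT h𝔜 hW J hsurj hJ φ hloc hφ 𝔉 q k _).symm.trans (congrArg (bU hloc 𝔉 q k) ?_)
    refine (E k).injective ((theta_natural _ _ q _ W (levelTrans 𝔛 hloc.1 𝔉 k) _).symm.trans ?_)
    refine Eq.trans ?_ ((E k).apply_symm_apply (piL h𝔜 φ hloc 𝔉 q k x)).symm
    exact (congrArg ((rT φ hloc h𝔜.1 𝔉 q k).val.app (op W)) ((E (k + 1)).apply_symm_apply _)).trans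
      (towSec_succ _ _ x k)
  have hsmul : ∀ k (c : A) x, π k (c • x) = Sheaf.H.map ((R.Φ k).map
      (Formal.smulMod (X := TT.X k) A (levR 𝔛 hloc.1 U 𝔉 k) c)) q (π k x) := by
    intro k c x
    obtain ⟨b, rfl⟩ := T.surjective c
    rw [hsm b x]
    exact (congrArg (fun z => bU hloc 𝔉 q k ((E k).symm z)) (piL_smul h𝔜 φ hloc 𝔉 q k b x)).trans
      (thW_symm_smul h𝔜 hW J hsurj hJ φ hloc hφ 𝔉 q h𝔉 k b _)
  have hinj : ∀ x, (∀ k, π k x = 0) → x = 0 := fun x hx => by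
    have h1 : ∀ k, piL h𝔜 φ hloc 𝔉 q k x = piL h𝔜 φ hloc 𝔉 q k 0 := fun k => by
      have h2 : (E k).symm (piL h𝔜 φ hloc 𝔉 q k x) = 0 :=
        (bU_bijective hloc 𝔉 q k).1 ((hx k).trans (map_zero (bU hloc 𝔉 q k)).symm)
      rw [map_zero (piL h𝔜 φ hloc 𝔉 q k)]
      exact (AddEquiv.map_eq_zero_iff (E k).symm).1 h2
    exact towSec_ext _ _ h1
  haveI : IsPrecomplete J A := hC.toIsPrecomplete
  obtain ⟨hfin, d, hd⟩ := finite_and_bound_of_real (T := TT) R (levR 𝔛 hloc.1 U 𝔉) (psiR 𝔛 hloc.1 U 𝔉) q a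
    (fun i => hspan ▸ Submodule.subset_span ⟨i, rfl⟩) (hc 0) hspan π hπ hsmul hinj
  refine ⟨J.comap T.toRingHom, isNoetherianRing_of_ringEquiv A T.symm, fun k c => ?_, ?_, d, fun k x hx => ?_⟩
  · have e1 : J.comap T.toRingHom = J.map T.symm.toRingHom := (Ideal.map_symm T).symm
    rw [e1, ← Ideal.map_pow]
    refine Iff.trans ?_ (Ideal.mem_map_iff_of_surjective T.symm.toRingHom T.symm.surjective).symm
    refine ⟨fun h => ⟨T c, ?_, T.symm_apply_apply c⟩, ?_⟩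
    · rw [← hJ k, RingHom.mem_ker]
      exact h
    · rintro ⟨e, he, rfl⟩
      rw [← hJ k, RingHom.mem_ker, ← T.apply_symm_apply e] at he
      exact he
  · obtain ⟨S, hS⟩ := hfin.fg_top
    refine ⟨⟨S, eq_top_iff.2 fun x _ => ?_⟩⟩
    refine Submodule.span_induction (p := fun x _ => x ∈ Submodule.span Rg (S : Set M))
      (fun z hz => Submodule.subset_span hz) (Submodule.zero_mem _) (fun _ _ _ _ => Submodule.add_mem _)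
      (fun c z _ hz => ?_) (hS.symm ▸ trivial : x ∈ Submodule.span A (S : Set M))
    obtain ⟨b, rfl⟩ := T.surjective c
    rw [hsm b z]
    exact Submodule.smul_mem _ b hz
  · have h0 : π (k + d) x = 0 := (congrArg (fun z => bU hloc 𝔉 q (k + d) ((E (k + d)).symm z)) hx).trans
      ((congrArg (bU hloc 𝔉 q (k + d)) (map_zero _)).trans (map_zero _))
    refine Submodule.smul_induction_on (hd k x h0) (fun c hc z _ => ?_) fun _ _ => Submodule.add_mem _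
    obtain ⟨b, rfl⟩ := T.surjective c
    rw [hsm b z]
    refine Submodule.smul_mem_smul ?_ trivial
    have e1 : J.comap T.toRingHom = J.map T.symm.toRingHom := (Ideal.map_symm T).symm
    rw [e1, ← Ideal.map_pow]
    exact (T.symm_apply_apply b) ▸ Ideal.mem_map_of_mem _ hc

end FRpushLib

end
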