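import Groth.Agent.FRpushLib.MLSheaf
import Groth.Agent.FRpushLib.WLim
import Groth.Agent.FCohLib.CohIso
import Groth.Agent.FCohLib.CmplReal
import Groth.Agent.FModLib.LocPresFP

/-!
# A limit of levels with finite adic sections is presented by sections
-/

set_option autoImplicit false
set_option linter.style.haveILetI false
set_option linter.unusedSectionVars false
set_option maxHeartbeats 800000
set_option synthInstance.maxHeartbeats 80000

universe u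

open CategoryTheory CategoryTheory.Limits AlgebraicGeometry TopologicalSpace Opposite FSch
open FModLib (MSec RSec mres rres oK lc LocPres)
open FCohLib (Basic)

noncomputable section

namespace FRpushLib

variable {𝔜 : Sys.{u}} (h𝔜 : 𝔜.IsLocNoethFormal) {G : ℕ → ModF 𝔜 h𝔜.1} (t : ∀ k, G (k + 1) ⟶ G k)

/-- Sections of the limit of a tower. -/
abbrev LSec (V : (𝔜.X 0).Opens) : Type u := MSec (limit (Functor.ofOpSequence (X := G) t)) V

/-- The projection of sections of the limit to a level. -/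
abbrev prT (k : ℕ) (V : (𝔜.X 0).Opens) : LSec h𝔜 t V →+ MSec (G k) V :=
  ((limit.π (Functor.ofOpSequence (X := G) t) (op k)).val.app (op V)).hom.toAddMonoidHom

/-- The transition maps on sections. -/
def trT (V : (𝔜.X 0).Opens) (k : ℕ) : MSec (G (k + 1)) V →+ MSec (G k) V :=
  ((t k).val.app (op V)).hom.toAddMonoidHom

theorem prT_smul (k : ℕ) {V : (𝔜.X 0).Opens} (b : RSec (𝔜.Osh h𝔜.1) V) (x : LSec h𝔜 t V) :
    prT h𝔜 t k V (b • x) = b • prT h𝔜 t k V x :=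
  map_smul ((limit.π (Functor.ofOpSequence (X := G) t) (op k)).val.app (op V)).hom b x

theorem prT_mres (k : ℕ) {V U : (𝔜.X 0).Opens} (hVU : V ≤ U) (x : LSec h𝔜 t U) :
    prT h𝔜 t k V (mres _ hVU x) = mres (G k) hVU (prT h𝔜 t k U x) :=
  PresheafOfModules.naturality_apply (limit.π (Functor.ofOpSequence (X := G) t) (op k)).val (homOfLE hVU).op x

theorem prT_lc (k : ℕ) {ι : Type u} [Fintype ι] {V U : (𝔜.X 0).Opens} (hVU : V ≤ U) (e : ι → LSec h𝔜 t U)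
    (c : ι → RSec (𝔜.Osh h𝔜.1) V) :
    prT h𝔜 t k V (lc _ hVU e c) = lc (G k) hVU (fun i => prT h𝔜 t k U (e i)) c :=
  FCohLib.app_lc (limit.π (Functor.ofOpSequence (X := G) t) (op k)) hVU e c

theorem prT_down {V : (𝔜.X 0).Opens} (x y : LSec h𝔜 t V) (k : ℕ) : ∀ d,
    prT h𝔜 t (k + d) V x = prT h𝔜 t (k + d) V y → prT h𝔜 t k V x = prT h𝔜 t k V y
  | 0, h => h
  | d + 1, h => prT_down x y k d ((towSec_succ G t x (k + d)).symm.trans
      ((congrArg ((t (k + d)).val.app (op V)) h).trans (towSec_succ G t y (k + d))))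

theorem comp_trT_smul {V : (𝔜.X 0).Opens} (a : RSec (𝔜.Osh h𝔜.1) V) (k : ℕ) : ∀ (L : ℕ) (x : MSec (G (k + L)) V),
    FModLib.comp (M := fun k => MSec (G k) V) (trT h𝔜 t V) k L (a • x) =
      a • FModLib.comp (M := fun k => MSec (G k) V) (trT h𝔜 t V) k L x
  | 0, _ => rfl
  | L + 1, x => (congrArg (FModLib.comp (M := fun k => MSec (G k) V) (trT h𝔜 t V) k L)
      (map_smul ((t (k + L)).val.app (op V)).hom a x)).trans (comp_trT_smul a k L _)

theorem comp_trT_mres {V V' : (𝔜.X 0).Opens} (hVV : V' ≤ V) (k : ℕ) : ∀ (L : ℕ) (x : MSec (G (k + L)) V),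
    FModLib.comp (M := fun k => MSec (G k) V') (trT h𝔜 t V') k L (mres _ hVV x) =
      mres _ hVV (FModLib.comp (M := fun k => MSec (G k) V) (trT h𝔜 t V) k L x)
  | 0, _ => rfl
  | L + 1, x => (congrArg (FModLib.comp (M := fun k => MSec (G k) V') (trT h𝔜 t V') k L)
      (PresheafOfModules.naturality_apply (t (k + L)).val (homOfLE hVV).op x)).trans (comp_trT_mres hVV k L _)

theorem comp_trT_prT {V : (𝔜.X 0).Opens} (x : LSec h𝔜 t V) (k : ℕ) : ∀ L,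
    FModLib.comp (M := fun k => MSec (G k) V) (trT h𝔜 t V) k L (prT h𝔜 t (k + L) V x) = prT h𝔜 t k V x
  | 0 => rfl
  | L + 1 => (congrArg (FModLib.comp (M := fun k => MSec (G k) V) (trT h𝔜 t V) k L)
      (towSec_succ G t x (k + L))).trans (comp_trT_prT x k L)

variable (hlev : ∀ k, ∃ N : (𝔜.X k).Modules, Coh.IsQCoh N ∧
  Nonempty (G k ≅ (levelMor 𝔜 h𝔜.1 k).push.obj N))

include hlev in
theorem smul_eq_of_oK (k : ℕ) {V : (𝔜.X 0).Opens} {b b' : RSec (𝔜.Osh h𝔜.1) V}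
    (hb : oK h𝔜.1 k V b = oK h𝔜.1 k V b') (y : MSec (G k) V) : b • y = b' • y := by
  obtain ⟨N, -, ⟨ι⟩⟩ := hlev k
  have hi : Function.LeftInverse (ι.inv.val.app (op V)) (ι.hom.val.app (op V)) := fun z =>
    congr($(congrArg (fun a : G k ⟶ G k => a.val.app (op V)) ι.hom_inv_id) z)
  refine hi.injective ((map_smul (ι.hom.val.app (op V)).hom b y).trans
    (Eq.trans ?_ (map_smul (ι.hom.val.app (op V)).hom b' y).symm))
  exact congrArg (fun c : Γ(𝔜.X k, 𝔜.lvU h𝔜.1 k V) =>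
    c • (show Γ(N, 𝔜.lvU h𝔜.1 k V) from ι.hom.val.app (op V) y)) hb

include hlev in
theorem lc_congr_level (k : ℕ) {ι : Type u} [Fintype ι] {V U : (𝔜.X 0).Opens} (hVU : V ≤ U) (e : ι → MSec (G k) U)
    {c c' : ι → RSec (𝔜.Osh h𝔜.1) V} (hc : ∀ i, oK h𝔜.1 k V (c i) = oK h𝔜.1 k V (c' i)) :
    lc (G k) hVU e c = lc (G k) hVU e c' :=
  Finset.sum_congr rfl fun i _ => smul_eq_of_oK h𝔜 hlev k (hc i) _

variable {W : (𝔜.X 0).Opens} (hW : IsAffineOpen W) {D : (𝔜.X 0).Opens} {g : RSec (𝔜.Osh h𝔜.1) W}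
  (hb : Basic h𝔜 D g)

include hlev hW hb in
theorem exists_extend_basic (k : ℕ) (y : MSec (G k) D) :
    ∃ (n : ℕ) (y' : MSec (G k) W), mres (G k) hb.le y' = rres (𝔜.Osh h𝔜.1) hb.le g ^ n • y := by
  obtain ⟨N, hN, ⟨ι⟩⟩ := hlev k
  exact exists_extend_level h𝔜.1 hW N ι g hb.le (hb.lvl k) y

include hlev hW hb in
theorem exists_kill_basic (k : ℕ) (y : MSec (G k) W) (hy : mres (G k) hb.le y = 0) :
    ∃ n : ℕ, g ^ n • y = 0 := by
  obtain ⟨N, hN, ⟨ι⟩⟩ := hlev k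
  let P := N.presheaf
  let s : Γ(N, 𝔜.lvU h𝔜.1 k W) := ι.hom.val.app (op W) y
  have hi : Function.LeftInverse (ι.inv.val.app (op W)) (ι.hom.val.app (op W)) := fun z =>
    congr($(congrArg (fun a : G k ⟶ G k => a.val.app (op W)) ι.hom_inv_id) z)
  have h1 : P.map ((Opens.map (𝔜.gInv h𝔜.1 k)).map (homOfLE hb.le)).op s = 0 :=
    (PresheafOfModules.naturality_apply ι.hom.val (homOfLE hb.le).op y).symm.trans
      ((congrArg (ι.hom.val.app (op D)) hy).trans (map_zero _))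
  obtain ⟨n, hn⟩ := (QCohLib.localizingAt_of_isQCoh (FModLib.isAffineOpen_lvU h𝔜.1 hW k) N (oK h𝔜.1 k W g)).eq_zero s <| by
    refine Eq.trans ?_ ((congrArg (P.map (eqToHom (congrArg op (hb.lvl k)))) h1).trans (map_zero _))
    refine Eq.trans ?_ (P.map_comp_apply _ _ s)
    exact congr($(congrArg P.map (Subsingleton.elim _ _)) s)
  refine ⟨n, hi.injective ((map_smul (ι.hom.val.app (op W)).hom (g ^ n) y).trans (Eq.trans ?_ (map_zero _).symm))⟩
  show (show Γ(𝔜.X k, 𝔜.lvU h𝔜.1 k W) from (𝔜.OshProj h𝔜.1 k).hom.app (op W) (g ^ n)) • s = _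
  simp only [homOfLE_refl, op_id, CategoryTheory.Functor.map_id] at hn
  exact (congrArg (fun c : Γ(𝔜.X k, 𝔜.lvU h𝔜.1 k W) => c • s) (map_pow _ g n)).trans hn

include hb in
theorem exists_pow_inv (n : ℕ) : ∃ u : RSec (𝔜.Osh h𝔜.1) D, u * rres (𝔜.Osh h𝔜.1) hb.le g ^ n = 1 :=
  ((isUnit_of_levels h𝔜.1 hb.affine _ fun j => FCohLib.isUnit_oK h𝔜 hb j).pow n).exists_left_inv

include hlev hW hb in
/-- Sections over a basic open are combinations on every level. -/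
theorem exists_comb_level (hst : FModLib.Stable (M := fun k => MSec (G k) W) (trT h𝔜 t W))
    {ι : Type u} [Fintype ι] (e : ι → LSec h𝔜 t W)
    (he : ∀ m : LSec h𝔜 t W, ∃ a : ι → RSec (𝔜.Osh h𝔜.1) W, lc _ le_rfl e a = m)
    (k : ℕ) (s : LSec h𝔜 t D) :
    ∃ c : ι → RSec (𝔜.Osh h𝔜.1) D, prT h𝔜 t k D (lc _ hb.le e c) = prT h𝔜 t k D s := by
  obtain ⟨L, hL⟩ := FModLib.exists_inAll hst k
  obtain ⟨n, y, hy⟩ := exists_extend_basic h𝔜 hlev hW hb (k + L) (prT h𝔜 t (k + L) D s)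
  have hx : FModLib.InAll (M := fun k => MSec (G k) W) (trT h𝔜 t W) k
      (FModLib.comp (M := fun k => MSec (G k) W) (trT h𝔜 t W) k L y) :=
    hL L le_rfl y
  obtain ⟨w, hw, hwk⟩ := exists_family_of_inAll hst k hx
  obtain ⟨m, hm⟩ := exists_towSec G t w hw
  obtain ⟨a, ha⟩ := he m
  obtain ⟨v, hv⟩ := exists_pow_inv h𝔜 hb n
  have h1 : prT h𝔜 t k D (lc _ hb.le e fun i => rres (𝔜.Osh h𝔜.1) hb.le (a i)) =
      rres (𝔜.Osh h𝔜.1) hb.le g ^ n • prT h𝔜 t k D s := by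
    refine (congrArg (prT h𝔜 t k D) (FModLib.mres_lc _ hb.le le_rfl e a).symm).trans ?_
    refine ((prT_mres h𝔜 t k hb.le _).trans (congrArg (mres (G k) hb.le)
      ((congrArg (prT h𝔜 t k W) ha).trans ((hm k).trans hwk)))).trans ?_
    refine (comp_trT_mres h𝔜 t hb.le k L y).symm.trans ?_
    refine (congrArg (FModLib.comp (M := fun k => MSec (G k) D) (trT h𝔜 t D) k L) hy).trans ?_
    exact (comp_trT_smul h𝔜 t _ k L _).trans (congrArg (fun z => _ • z) (comp_trT_prT h𝔜 t s k L))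
  refine ⟨fun i => v * rres (𝔜.Osh h𝔜.1) hb.le (a i), ?_⟩
  have h2 : lc _ hb.le e (fun i => v * rres (𝔜.Osh h𝔜.1) hb.le (a i)) =
      v • lc _ hb.le e (fun i => rres (𝔜.Osh h𝔜.1) hb.le (a i)) :=
    (Finset.sum_congr rfl fun i _ => mul_smul v _ _).trans Finset.smul_sum.symm
  refine (congrArg (prT h𝔜 t k D) h2).trans ((prT_smul h𝔜 t k v _).trans ((congrArg (fun z => v • z) h1).trans ?_))
  exact (smul_smul _ _ _).trans ((congrArg (fun z => z • prT h𝔜 t k D s) hv).trans (one_smul _ _))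

theorem oK_down {V : (𝔜.X 0).Opens} (b b' : RSec (𝔜.Osh h𝔜.1) V) (k : ℕ) : ∀ d,
    oK h𝔜.1 (k + d) V b = oK h𝔜.1 (k + d) V b' → oK h𝔜.1 k V b = oK h𝔜.1 k V b'
  | 0, h => h
  | d + 1, h => oK_down b b' k d ((FModLib.oProj_succ h𝔜.1 V (k + d) b).symm.trans
      ((congrArg _ h).trans (FModLib.oProj_succ h𝔜.1 V (k + d) b')))

include hlev hW hb in
/-- Combinations killed on a higher level are relations modulo a lower one. -/
theorem exists_rel_level {I : Ideal (RSec (𝔜.Osh h𝔜.1) W)} (hI : ∀ k a, oK h𝔜.1 k W a = 0 ↔ a ∈ I ^ (k + 1))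
    {d : ℕ} (hd : ∀ k (x : LSec h𝔜 t W), prT h𝔜 t (k + d) W x = 0 →
      x ∈ (I ^ (k + 1) • ⊤ : Submodule (RSec (𝔜.Osh h𝔜.1) W) (LSec h𝔜 t W)))
    {ι κ : Type u} [Fintype ι] [Fintype κ] (e : ι → LSec h𝔜 t W)
    (he : ∀ m : LSec h𝔜 t W, ∃ a : ι → RSec (𝔜.Osh h𝔜.1) W, lc _ le_rfl e a = m)
    (r : κ → ι → RSec (𝔜.Osh h𝔜.1) W)
    (hr : ∀ a : ι → RSec (𝔜.Osh h𝔜.1) W, lc _ le_rfl e a = 0 →
      ∃ w : κ → RSec (𝔜.Osh h𝔜.1) W, ∀ i, a i = ∑ j, w j * r j i)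
    (k : ℕ) (c : ι → RSec (𝔜.Osh h𝔜.1) D) (hc : prT h𝔜 t (k + d) D (lc _ hb.le e c) = 0) :
    ∃ w : κ → RSec (𝔜.Osh h𝔜.1) D, ∀ i,
      oK h𝔜.1 k D (c i) = oK h𝔜.1 k D (∑ j, w j * rres (𝔜.Osh h𝔜.1) hb.le (r j i)) := by
  let ρ : RSec (𝔜.Osh h𝔜.1) W →+* RSec (𝔜.Osh h𝔜.1) D := ((𝔜.Osh h𝔜.1).obj.map (homOfLE hb.le).op).hom
  obtain ⟨E, a, ha⟩ := FCohLib.exists_lift_level h𝔜 hW hb (k + d) c
  let o : ∀ j, RSec (𝔜.Osh h𝔜.1) D →+* RSec (𝔜.X j).sheaf (𝔜.lvU h𝔜.1 j D) :=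
    fun j => ((𝔜.OshProj h𝔜.1 j).hom.app (op D)).hom
  have ha' : ∀ i, oK h𝔜.1 (k + d) D (ρ (a i)) = oK h𝔜.1 (k + d) D (ρ g ^ E * c i) := fun i =>
    (ha i).trans ((map_mul (o (k + d)) _ _).trans (congrArg (fun z => z * _) (map_pow (o (k + d)) _ E))).symm
  have h1 : mres (G (k + d)) hb.le (prT h𝔜 t (k + d) W (lc _ le_rfl e a)) = 0 := by
    refine (prT_mres h𝔜 t (k + d) hb.le _).symm.trans ?_
    refine (congrArg (prT h𝔜 t (k + d) D) (FModLib.mres_lc _ hb.le le_rfl e a)).trans ?_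
    refine (prT_lc h𝔜 t (k + d) _ e _).trans ((lc_congr_level h𝔜 hlev (k + d) _ _ ha').trans ?_)
    refine (prT_lc h𝔜 t (k + d) hb.le e _).symm.trans ?_
    refine (congrArg (prT h𝔜 t (k + d) D) ((Finset.sum_congr rfl fun i _ => mul_smul (ρ g ^ E) _ _).trans
      Finset.smul_sum.symm)).trans ?_
    exact (prT_smul h𝔜 t (k + d) _ _).trans ((congrArg (fun z => ρ g ^ E • z) hc).trans (smul_zero _))
  obtain ⟨M, hM⟩ := exists_kill_basic h𝔜 hlev hW hb (k + d) _ h1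
  have h2 : prT h𝔜 t (k + d) W (lc _ le_rfl e fun i => g ^ M * a i) = 0 :=
    (congrArg (prT h𝔜 t (k + d) W) ((Finset.sum_congr rfl fun i _ => mul_smul (g ^ M) _ _).trans
      Finset.smul_sum.symm)).trans ((prT_smul h𝔜 t (k + d) _ _).trans hM)
  obtain ⟨b, hbI, hbe⟩ : ∃ b : ι → RSec (𝔜.Osh h𝔜.1) W, (∀ i, b i ∈ I ^ (k + 1)) ∧
      lc _ le_rfl e b = lc _ le_rfl e fun i => g ^ M * a i := by
    refine Submodule.smul_induction_on (p := fun x => ∃ b : ι → RSec (𝔜.Osh h𝔜.1) W,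
      (∀ i, b i ∈ I ^ (k + 1)) ∧ lc _ le_rfl e b = x) (hd k _ h2) (fun c hc m _ => ?_) ?_
    · obtain ⟨a', ha'⟩ := he m
      exact ⟨fun i => c * a' i, fun i => Ideal.mul_mem_right _ _ hc, ((Finset.sum_congr rfl fun i _ =>
        mul_smul c _ _).trans Finset.smul_sum.symm).trans (congrArg (fun z => c • z) ha')⟩
    · rintro x y ⟨b, hb, rfl⟩ ⟨b', hb', rfl⟩
      exact ⟨b + b', fun i => add_mem (hb i) (hb' i), FModLib.lc_add _ _ e b b'⟩
  obtain ⟨w, hw⟩ := hr ((fun i => g ^ M * a i) - b) (by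
    have e1 := FModLib.lc_add (limit (Functor.ofOpSequence (X := G) t)) le_rfl e ((fun i => g ^ M * a i) - b) b
    rw [sub_add_cancel] at e1
    exact right_eq_add.1 (hbe.trans e1))
  obtain ⟨v, hv⟩ := exists_pow_inv h𝔜 hb (M + E)
  refine ⟨fun j => v * ρ (w j), fun i => ?_⟩
  have hb0 : o k (ρ (b i)) = 0 :=
    (FModLib.oK_rres h𝔜.1 k hb.le (b i)).symm.trans ((congrArg _ ((hI k _).2 (hbI i))).trans (map_zero _))
  have hak : o k (ρ (a i)) = o k (ρ g ^ E * c i) := oK_down h𝔜 _ _ k d (ha' i)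
  have h3 : o k (ρ g ^ (M + E) * c i) = o k (ρ (∑ j, w j * r j i)) := by
    rw [← hw i, Pi.sub_apply, map_sub, map_sub, hb0, sub_zero, map_mul ρ, map_pow ρ, map_mul (o k) (ρ g ^ M), hak,
      ← map_mul (o k), pow_add, mul_assoc]
  show o k (c i) = o k (∑ j, v * ρ (w j) * ρ (r j i))
  have h4 : ∑ j, v * ρ (w j) * ρ (r j i) = v * ρ (∑ j, w j * r j i) := by
    simp only [map_sum, map_mul, Finset.mul_sum, mul_assoc]
  rw [h4, map_mul, ← h3, ← map_mul, ← mul_assoc]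
  exact congrArg (o k) ((congrArg (fun z => z * c i) hv).trans (one_mul _)).symm

omit hW hb

include hlev in
/-- **A limit of levels with finite adic sections is presented by generators and relations of its sections.** -/
theorem locPres_lim (hW : IsAffineOpen W) (hst : FModLib.Stable (M := fun k => MSec (G k) W) (trT h𝔜 t W))
    {I : Ideal (RSec (𝔜.Osh h𝔜.1) W)} (hI : ∀ k a, oK h𝔜.1 k W a = 0 ↔ a ∈ I ^ (k + 1))
    {d : ℕ} (hd : ∀ k (x : LSec h𝔜 t W), prT h𝔜 t (k + d) W x = 0 →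
      x ∈ (I ^ (k + 1) • ⊤ : Submodule (RSec (𝔜.Osh h𝔜.1) W) (LSec h𝔜 t W)))
    {ι κ : Type u} [Fintype ι] [Fintype κ] (e : ι → LSec h𝔜 t W)
    (he : ∀ m : LSec h𝔜 t W, ∃ a : ι → RSec (𝔜.Osh h𝔜.1) W, lc _ le_rfl e a = m)
    (r : κ → ι → RSec (𝔜.Osh h𝔜.1) W) (hrel : ∀ j, lc _ le_rfl e (r j) = 0)
    (hr : ∀ a : ι → RSec (𝔜.Osh h𝔜.1) W, lc _ le_rfl e a = 0 →
      ∃ w : κ → RSec (𝔜.Osh h𝔜.1) W, ∀ i, a i = ∑ j, w j * r j i) :
    LocPres (limit (Functor.ofOpSequence (X := G) t)) W e r where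
  rel := hrel
  gen V hV s p hp := by
    obtain ⟨D, g, hb, hpD, hDV⟩ := FCohLib.exists_basic h𝔜 hW hp (hV hp)
    let s' : LSec h𝔜 t D := mres _ hDV s
    choose c hc using fun k => exists_comb_level h𝔜 t hlev hW hb hst e he (k + d) s'
    have step : ∀ k (b : ι → RSec (𝔜.Osh h𝔜.1) D),
        prT h𝔜 t (k + d) D (lc _ hb.le e b) = prT h𝔜 t (k + d) D s' →
        ∃ b' : ι → RSec (𝔜.Osh h𝔜.1) D, prT h𝔜 t (k + 1 + d) D (lc _ hb.le e b') = prT h𝔜 t (k + 1 + d) D s' ∧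
          ∀ i, oK h𝔜.1 k D (b' i) = oK h𝔜.1 k D (b i) := by
      intro k b hbs
      have h1 : prT h𝔜 t (k + d) D (lc _ hb.le e (c (k + 1))) = prT h𝔜 t (k + d) D s' :=
        prT_down h𝔜 t _ _ (k + d) 1 (by rw [Nat.add_right_comm]; exact hc (k + 1))
      have h2 : prT h𝔜 t (k + d) D (lc _ hb.le e (b - c (k + 1))) = 0 := by
        have e1 := congrArg (prT h𝔜 t (k + d) D)
          (FModLib.lc_add (limit (Functor.ofOpSequence (X := G) t)) hb.le e (b - c (k + 1)) (c (k + 1)))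
        rw [sub_add_cancel, map_add, hbs, h1] at e1
        exact right_eq_add.1 e1
      obtain ⟨w, hw⟩ := exists_rel_level h𝔜 t hlev hW hb hI hd e he r hr k _ h2
      refine ⟨c (k + 1) + fun i => ∑ j, w j * rres (𝔜.Osh h𝔜.1) hb.le (r j i), ?_, fun i => ?_⟩
      · exact (congrArg (prT h𝔜 t (k + 1 + d) D) (FCohLib.lc_add_relations _ hb.le e r hrel _ w)).trans (hc (k + 1))
      · refine (map_add ((𝔜.OshProj h𝔜.1 k).hom.app (op D)).hom _ _).trans ?_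
        refine (congrArg (fun z => oK h𝔜.1 k D (c (k + 1) i) + z) (hw i).symm).trans ?_
        exact (map_add ((𝔜.OshProj h𝔜.1 k).hom.app (op D)).hom _ _).symm.trans
          (congrArg (oK h𝔜.1 k D) (add_sub_cancel (c (k + 1) i) (b i)))
    choose nxt hn1 hn2 using step
    let b : ∀ k, {b : ι → RSec (𝔜.Osh h𝔜.1) D //
        prT h𝔜 t (k + d) D (lc _ hb.le e b) = prT h𝔜 t (k + d) D s'} := fun k =>
      Nat.rec ⟨c 0, hc 0⟩ (fun k bk => ⟨nxt k bk.1 bk.2, hn1 k bk.1 bk.2⟩) k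
    have hbs : ∀ k i, oK h𝔜.1 k D ((b (k + 1)).1 i) = oK h𝔜.1 k D ((b k).1 i) := fun k i =>
      hn2 k (b k).1 (b k).2 i
    choose c' hc' using fun i => (FModLib.toLim_bijective h𝔜.1 D hb.affine).2
      ⟨fun k => oK h𝔜.1 k D ((b k).1 i), fun k => (FModLib.oProj_succ h𝔜.1 D k _).trans (hbs k i)⟩
    refine ⟨D, hDV, c', hpD, towSec_ext G t fun k => ?_⟩
    refine Eq.trans (prT_down h𝔜 t _ _ k d (b k).2).symm ?_
    refine (prT_lc h𝔜 t k hb.le e _).trans (Eq.trans ?_ (prT_lc h𝔜 t k hb.le e c').symm)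
    exact lc_congr_level h𝔜 hlev k _ _ fun i =>
      (congrArg (fun x : (FModLib.secSys h𝔜.1 D hb.affine).lim => x.1 k) (hc' i)).symm
  ex V hV c hc p hp := by
    obtain ⟨D, g, hb, hpD, hDV⟩ := FCohLib.exists_basic h𝔜 hW hp (hV hp)
    have h0 : lc (limit (Functor.ofOpSequence (X := G) t)) hb.le e (fun i => rres (𝔜.Osh h𝔜.1) hDV (c i)) = 0 :=
      (FModLib.mres_lc _ hDV hV e c).symm.trans ((congrArg (mres _ hDV) hc).trans (map_zero _))
    obtain ⟨w, hw⟩ := FModLib.exists_rel_of_levels h𝔜 hb.affine (fun j i => rres (𝔜.Osh h𝔜.1) hb.le (r j i))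
      (fun i => rres (𝔜.Osh h𝔜.1) hDV (c i)) fun k => exists_rel_level h𝔜 t hlev hW hb hI hd e he r hr k _
        ((congrArg (prT h𝔜 t (k + d) D) h0).trans (map_zero _))
    exact ⟨D, hDV, w, hpD, hw⟩

end FRpushLib

end
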