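import Mathlib.RingTheory.AdicCompletion.Basic
import Mathlib.RingTheory.Finiteness.Ideal
import Mathlib.RingTheory.Finiteness.Basic

/-!
# Complete filtered modules with finitely generated graded
-/

set_option autoImplicit false

universe u v

noncomputable section

namespace FRpushLib

variable {A : Type u} [CommRing A] {J : Ideal A} {M : Type v} [AddCommGroup M] [Module A M]
  {K : ℕ → Submodule A M}

theorem pow_smul_le (hJ : ∀ k, J • K k ≤ K (k + 1)) (d : ℕ) : ∀ n, J ^ n • K d ≤ K (d + n)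
  | 0 => le_of_eq (by rw [pow_zero, Ideal.one_eq_top, Submodule.top_smul]; rfl)
  | n + 1 => by
    rw [pow_succ', Submodule.mul_smul]
    exact (Submodule.smul_mono le_rfl (pow_smul_le hJ d n)).trans (hJ (d + n))

theorem antitone_of_succ (hK : ∀ k, K (k + 1) ≤ K k) {m n : ℕ} (h : m ≤ n) : K n ≤ K m :=
  antitone_nat_of_succ_le hK h

theorem fg_mod_step (hfin : ∀ k, ∃ S : Submodule A M, S.FG ∧ K k ≤ S ⊔ K (k + 1))
    (h0 : ∃ S : Submodule A M, S.FG ∧ (⊤ : Submodule A M) ≤ S ⊔ K 0) :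
    ∀ d, ∃ S : Submodule A M, S.FG ∧ (⊤ : Submodule A M) ≤ S ⊔ K d
  | 0 => h0
  | d + 1 => by
    obtain ⟨S, hS, hle⟩ := fg_mod_step hfin h0 d
    obtain ⟨S', hS', hle'⟩ := hfin d
    exact ⟨S ⊔ S', hS.sup hS', hle.trans ((sup_le_sup_left hle' S).trans (sup_assoc _ _ _).ge)⟩

variable [IsPrecomplete J A]

/-- A filtration-convergent series over a finite family lies in its span. -/
theorem exists_coeff {σ : Type*} [Fintype σ] {d : ℕ} (v : σ → M) (hv : ∀ l, v l ∈ K d)
    (hJ : ∀ k, J • K k ≤ K (k + 1)) (hK : ∀ k, K (k + 1) ≤ K k)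
    (hsep : ∀ x : M, (∀ k, x ∈ K k) → x = 0)
    (step : ∀ j x, x ∈ K (d + j) → ∃ c : σ → A, (∀ l, c l ∈ J ^ j) ∧ x - ∑ l, c l • v l ∈ K (d + j + 1))
    (j : ℕ) {x : M} (hx : x ∈ K (d + j)) : ∃ c : σ → A, (∀ l, c l ∈ J ^ j) ∧ x = ∑ l, c l • v l := by
  classical
  choose f hf hf' using step
  let st : ∀ i, {y : (σ → A) // x - ∑ l, y l • v l ∈ K (d + (j + i)) ∧ ∀ l, y l ∈ J ^ j} := fun i =>
    Nat.rec ⟨0, by simpa using hx, fun l => zero_mem _⟩
      (fun i y => ⟨fun l => y.1 l + f (j + i) _ y.2.1 l, by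
        have := hf' (j + i) _ y.2.1
        rw [show d + (j + (i + 1)) = d + (j + i) + 1 by omega]
        refine (congrArg (fun z => z ∈ K (d + (j + i) + 1)) ?_).mp this
        simp only [add_smul, Finset.sum_add_distrib, sub_sub],
        fun l => add_mem (y.2.2 l) (Ideal.pow_le_pow_right (by omega) (hf (j + i) _ y.2.1 l))⟩) i
  have hst : ∀ i l, (st (i + 1)).1 l - (st i).1 l ∈ J ^ (j + i) := fun i l => by
    show (st i).1 l + f (j + i) _ (st i).2.1 l - (st i).1 l ∈ _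
    rw [add_sub_cancel_left]
    exact hf _ _ _ l
  have hcau : ∀ {m n} l, m ≤ n → (st n).1 l - (st m).1 l ∈ J ^ (j + m) := by
    intro m n l hmn
    induction n, hmn using Nat.le_induction with
    | base => simp
    | succ n hmn ih =>
      rw [show (st (n + 1)).1 l - (st m).1 l = ((st (n + 1)).1 l - (st n).1 l) + ((st n).1 l - (st m).1 l) by abel]
      exact add_mem (Ideal.pow_le_pow_right (by omega) (hst n l)) ih
  have hpre : ∀ l, ∃ c : A, ∀ n, c - (st n).1 l ∈ J ^ n := fun l => by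
    obtain ⟨c, hc⟩ := IsPrecomplete.prec ‹IsPrecomplete J A› (f := fun n => (st n).1 l) (fun {m n} hmn => by
      rw [SModEq.sub_mem, smul_eq_mul, Ideal.mul_top]
      refine neg_mem_iff.1 ?_
      rw [neg_sub]
      exact Ideal.pow_le_pow_right (Nat.le_add_left m j) (hcau l hmn))
    refine ⟨c, fun n => ?_⟩
    have := hc n
    rw [SModEq.sub_mem, smul_eq_mul, Ideal.mul_top] at this
    exact (Submodule.sub_mem_iff_left _ (zero_mem (J ^ n))).1 (by rw [sub_zero, ← neg_sub]; exact neg_mem this)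
  choose c hc using hpre
  refine ⟨c, fun l => ?_, sub_eq_zero.1 (hsep _ fun i => ?_)⟩
  · rw [← sub_add_cancel (c l) ((st j).1 l)]
    exact add_mem (hc l j) ((st j).2.2 l)
  · rw [show x - ∑ l, c l • v l = (x - ∑ l, (st i).1 l • v l) - ∑ l, (c l - (st i).1 l) • v l by
      simp only [sub_smul, Finset.sum_sub_distrib]; abel]
    refine sub_mem (antitone_of_succ hK (by omega) (st i).2.1) (sum_mem fun l _ => ?_)
    exact antitone_of_succ hK (Nat.le_add_left i d) (pow_smul_le hJ d i (Submodule.smul_mem_smul (hc l i) (hv l)))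

/-- **Finiteness and boundedness of the filtration.** -/
theorem finite_and_bound (hJ : ∀ k, J • K k ≤ K (k + 1)) (hK : ∀ k, K (k + 1) ≤ K k)
    (hsep : ∀ x : M, (∀ k, x ∈ K k) → x = 0)
    (h0 : ∃ S : Submodule A M, S.FG ∧ (⊤ : Submodule A M) ≤ S ⊔ K 0)
    (hfin : ∀ k, ∃ S : Submodule A M, S.FG ∧ S ≤ K k ∧ K k ≤ S ⊔ K (k + 1))
    (hgen : ∃ d, ∀ m, d ≤ m → K (m + 1) ≤ J • K m ⊔ K (m + 2)) :
    Module.Finite A M ∧ ∃ d, ∀ k x, x ∈ K (k + d) → x ∈ (J ^ (k + 1) • ⊤ : Submodule A M) := by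
  classical
  obtain ⟨d, hd⟩ := hgen
  obtain ⟨L, hL, hLK, hKL⟩ := hfin d
  have step : ∀ j, K (d + j) ≤ J ^ j • L ⊔ K (d + j + 1) := by
    intro j
    induction j with
    | zero => rw [pow_zero, Ideal.one_eq_top, Submodule.top_smul]; exact hKL
    | succ j ih =>
      refine (hd (d + j) (Nat.le_add_right d j)).trans (sup_le ?_ le_sup_right)
      refine (Submodule.smul_mono le_rfl ih).trans ?_
      rw [Submodule.smul_sup, ← Submodule.mul_smul, ← pow_succ']
      exact sup_le_sup_left (hJ (d + j + 1)) _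
  obtain ⟨n, v, hv⟩ := Submodule.fg_iff_exists_fin_generating_family.1 hL
  have hvK : ∀ l, v l ∈ K d := fun l => hLK (hv ▸ Submodule.subset_span ⟨l, rfl⟩)
  have step' : ∀ j x, x ∈ K (d + j) → ∃ c : Fin n → A, (∀ l, c l ∈ J ^ j) ∧ x - ∑ l, c l • v l ∈ K (d + j + 1) := by
    intro j x hx
    obtain ⟨y, hy, z, hz, rfl⟩ := Submodule.mem_sup.1 (step j hx)
    rw [← hv, Submodule.mem_ideal_smul_span_iff_exists_sum] at hy
    obtain ⟨c, hc, rfl⟩ := hy
    refine ⟨fun l => c l, hc, ?_⟩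
    rw [Finsupp.sum_fintype c (fun i a => a • v i) (fun i => zero_smul A (v i))]
    simpa using hz
  have key := fun j x (hx : x ∈ K (d + j)) => exists_coeff v hvK hJ hK hsep step' j hx
  constructor
  · obtain ⟨S, hS, hle⟩ := fg_mod_step (fun k => (hfin k).imp fun S h => ⟨h.1, h.2.2⟩) h0 d
    refine ⟨(eq_top_iff.2 (hle.trans (sup_le_sup_left ?_ S))) ▸ hS.sup hL⟩
    intro x hx
    obtain ⟨c, -, rfl⟩ := key 0 x hx
    exact sum_mem fun l _ => L.smul_mem _ (hv ▸ Submodule.subset_span ⟨l, rfl⟩)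
  · refine ⟨d + 1, fun k x hx => ?_⟩
    obtain ⟨c, hc, rfl⟩ := key (k + 1) x (by rwa [show d + (k + 1) = k + (d + 1) by omega])
    exact sum_mem fun l _ => Submodule.smul_mem_smul (hc l) trivial

end FRpushLib

end
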