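import Groth.Agent.FRpushLib.GoodFil
import Groth.Agent.FModLib.MLMain

/-!
# Finiteness of the cohomology of the limit of an adic system of coherent modules
-/

set_option autoImplicit false
set_option maxHeartbeats 400000

universe u v

open CategoryTheory CategoryTheory.Limits AlgebraicGeometry Opposite TopologicalSpace
open GrSysLib (Thick thickSys tK tH kerObj gen_HH isGenCoh_thickSys isCoh_kerObj commOps_tH GenOps CommOps exists_sub_gen)
open FModLib (Real HR dd tau hm_comp hm_zero nuZ nuZ_dd nuZ_tau stepSeq_shortExact dd_tau dd_smul key_smul)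

noncomputable section

namespace FRpushLib

variable {A : Type u} [CommRing A] {J : Ideal A} {T : Thick A J} (R : Real T)
  (F : ∀ k, (T.X k).Modules) (ψ : ∀ k, (Scheme.Modules.pullback (T.i k)).obj (F (k + 1)) ≅ F k)
  [∀ k, Coh.IsQCoh (F k)] (q : ℕ)
  {r : ℕ} (a : Fin r → A) (ha : ∀ i, a i ∈ J) [IsNoetherianRing A] (hF : Coh.IsCoh (F 0))
  (hspan : Ideal.span (Set.range a) = J)

/-- The kernel of the step, in cohomology of degree `q`. -/
def gE (k : ℕ) : Coh.HH (T.X 0) (kerObj T F ψ a ha (k + 1)) q →+ HR R F q (k + 1) :=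
  Sheaf.H.map (R.β.inv.app (kerObj T F ψ a ha (k + 1)) ≫ nuZ R F ψ a ha hF hspan k) q

theorem gE_smul (k : ℕ) (b : A) (x : Coh.HH (T.X 0) (kerObj T F ψ a ha (k + 1)) q) :
    gE R F ψ q a ha hF hspan k (b • x) =
      Sheaf.H.map ((R.Φ (k + 1)).map (Formal.smulMod A (F (k + 1)) b)) q (gE R F ψ q a ha hF hspan k x) := by
  have h : b • x = FormalLib.hMapA (A := A) (Formal.smulMod A (kerObj T F ψ a ha (k + 1)) b) q x := rfl
  rw [h, FormalLib.hMapA_apply]
  refine (hm_comp q _ _ x).trans (Eq.trans ?_ (hm_comp q _ _ x).symm)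
  exact congrArg (fun e => Sheaf.H.map e q x) (key_smul R F ψ a ha hF hspan k b)

theorem gE_tH (i : Fin r) (k : ℕ) (x : Coh.HH (T.X 0) (kerObj T F ψ a ha (k + 1)) q) :
    gE R F ψ q a ha hF hspan (k + 1) (tH A (thickSys T F ψ a ha hF) q i (k + 1) x) =
      Sheaf.H.map (tau R F ψ (k + 1) (a i) (ha i)) q (gE R F ψ q a ha hF hspan k x) := by
  refine (congrArg (gE R F ψ q a ha hF hspan (k + 1)) (FormalLib.hMapA_apply (A := A) (tK T F ψ a ha hF i (k + 1)) q x)).trans ?_
  refine (hm_comp q _ _ x).trans (Eq.trans ?_ (hm_comp q _ _ x).symm)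
  refine congrArg (fun e => Sheaf.H.map e q x) ?_
  refine (Category.assoc _ _ _).symm.trans (Eq.trans ?_ (Category.assoc _ _ _).symm)
  refine (congrArg (fun e => e ≫ nuZ R F ψ a ha hF hspan (k + 1))
    (R.β.inv.naturality (tK T F ψ a ha hF i (k + 1)))).trans ?_
  refine (Category.assoc _ _ _).trans ?_
  exact congrArg (fun e => R.β.inv.app (kerObj T F ψ a ha (k + 1)) ≫ e) (nuZ_tau R F ψ a ha hF hspan i k)

theorem dd_gE (k : ℕ) (x : Coh.HH (T.X 0) (kerObj T F ψ a ha (k + 1)) q) :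
    Sheaf.H.map (dd R F ψ k) q (gE R F ψ q a ha hF hspan k x) = 0 := by
  refine (hm_comp q _ _ x).trans ?_
  rw [Category.assoc, nuZ_dd, comp_zero]
  exact hm_zero q x

theorem exists_gE (k : ℕ) (y : HR R F q (k + 1)) (hy : Sheaf.H.map (dd R F ψ k) q y = 0) :
    ∃ x, gE R F ψ q a ha hF hspan k x = y := by
  obtain ⟨z, hz⟩ := AtlasCoh.hExact₂ (stepSeq_shortExact R F ψ a ha hF hspan k) q y hy
  refine ⟨Sheaf.H.map (R.β.hom.app (kerObj T F ψ a ha (k + 1))) q z, (hm_comp q _ _ z).trans ?_⟩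
  exact (congrArg (fun e => Sheaf.H.map e q z) ((Category.assoc _ _ _).symm.trans
    ((congrArg (fun e => e ≫ nuZ R F ψ a ha hF hspan k) (R.β.hom_inv_id_app _)).trans (Category.id_comp _)))).trans hz

variable {M : Type v} [AddCommGroup M] [Module A M] (π : ∀ k, M →+ HR R F q k)
  (hπ : ∀ k x, Sheaf.H.map (dd R F ψ k) q (π (k + 1) x) = π k x)
  (hsmul : ∀ k (b : A) x, π k (b • x) = Sheaf.H.map ((R.Φ k).map (Formal.smulMod A (F k) b)) q (π k x))
  (hinj : ∀ x, (∀ k, π k x = 0) → x = 0)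

/-- The kernels of the projections. -/
def kerFil (k : ℕ) : Submodule A M where
  carrier := {x | π k x = 0}
  zero_mem' := map_zero _
  add_mem' {x y} hx hy := by
    rw [Set.mem_ofPred_eq] at hx hy ⊢
    rw [map_add, hx, hy, add_zero]
  smul_mem' b x hx := by
    rw [Set.mem_ofPred_eq] at hx ⊢
    rw [hsmul, hx, map_zero]

/-- The classes of the kernels that come from the limit. -/
def liftable (k : ℕ) : Submodule A (Coh.HH (T.X 0) (kerObj T F ψ a ha (k + 1)) q) where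
  carrier := {x | ∃ μ, π (k + 1) μ = gE R F ψ q a ha hF hspan k x}
  zero_mem' := ⟨0, (map_zero _).trans (map_zero _).symm⟩
  add_mem' {x y} hx hy := by
    obtain ⟨μ, hμ⟩ := hx
    obtain ⟨ν, hν⟩ := hy
    exact ⟨μ + ν, by rw [map_add, map_add, hμ, hν]⟩
  smul_mem' b x hx := by
    obtain ⟨μ, hμ⟩ := hx
    exact ⟨b • μ, by rw [hsmul, hμ, gE_smul]⟩

include hπ hsmul in
theorem smul_pi (i : Fin r) (k : ℕ) (μ : M) :
    π (k + 1) (a i • μ) = Sheaf.H.map (tau R F ψ k (a i) (ha i)) q (π k μ) := by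
  rw [hsmul, ← hπ k μ]
  exact (congrArg (fun e => Sheaf.H.map e q (π (k + 1) μ)) (dd_tau R F ψ k (a i) (ha i))).symm.trans
    (hm_comp q _ _ _).symm

include hπ hsmul hinj hF hspan ha in
/-- **The limit is finite and its filtration is adic up to a shift.** -/
theorem finite_and_bound_of_real [IsPrecomplete J A] :
    Module.Finite A M ∧ ∃ d, ∀ k x, π (k + d) x = 0 → x ∈ (J ^ (k + 1) • ⊤ : Submodule A M) := by
  classical
  let K := kerFil R F q π hsmul
  let P := liftable R F ψ q a ha hF hspan π hsmul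
  let S := thickSys T F ψ a ha hF
  let t : Fin r → ∀ m, Coh.HH (T.X 0) (kerObj T F ψ a ha (m + 1)) q →ₗ[A]
      Coh.HH (T.X 0) (kerObj T F ψ a ha (m + 1 + 1)) q := fun i m => tH A S q i (m + 1)
  obtain ⟨d₁, hd₁⟩ := gen_HH (A := A) r S (isGenCoh_thickSys T F ψ a ha hF) q
  have hgen : GenOps (M := fun m => Coh.HH (T.X 0) (kerObj T F ψ a ha (m + 1)) q) t :=
    ⟨d₁, fun m hm x => hd₁ (m + 1) (by omega) x⟩
  have hcomm : CommOps (M := fun m => Coh.HH (T.X 0) (kerObj T F ψ a ha (m + 1)) q) t :=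
    fun i j m x => commOps_tH S q i j (m + 1) x
  haveI hfinite : ∀ m, Module.Finite A (Coh.HH (T.X 0) (kerObj T F ψ a ha (m + 1)) q) := fun m =>
    FormalLib.finite_HH _ (isCoh_kerObj T F ψ a ha hF (m + 1)) q
  have hmem : ∀ i m x, x ∈ P m → t i m x ∈ P (m + 1) := by
    rintro i m x ⟨μ, hμ⟩
    refine ⟨a i • μ, ?_⟩
    rw [smul_pi R F ψ q a ha π hπ hsmul i (m + 1) μ, hμ]
    exact (gE_tH R F ψ q a ha hF hspan i m x).symm
  obtain ⟨d, hd⟩ := exists_sub_gen (M := fun m => Coh.HH (T.X 0) (kerObj T F ψ a ha (m + 1)) q) hcomm hgen P hmem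
  have mem : ∀ (k : ℕ) (x : M), x ∈ K k ↔ π k x = 0 := fun _ _ => Iff.rfl
  have hK : ∀ k, K (k + 1) ≤ K k := fun k x hx =>
    (mem _ _).2 ((hπ k x).symm.trans ((congrArg _ ((mem _ _).1 hx)).trans (map_zero _)))
  have haK : ∀ i k x, x ∈ K k → a i • x ∈ K (k + 1) := fun i k x hx =>
    (mem _ _).2 ((smul_pi R F ψ q a ha π hπ hsmul i k x).trans ((congrArg _ ((mem _ _).1 hx)).trans (map_zero _)))
  have hJ : ∀ k, J • K k ≤ K (k + 1) := fun k => Submodule.smul_le.2 fun b hb x hx => by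
    rw [← hspan, Ideal.span, Submodule.mem_span_range_iff_exists_fun] at hb
    obtain ⟨e, rfl⟩ := hb
    rw [Finset.sum_smul]
    refine sum_mem fun i _ => ?_
    rw [smul_eq_mul, mul_smul]
    exact (K (k + 1)).smul_mem _ (haK i k x hx)
  have h0 : ∃ S : Submodule A M, S.FG ∧ (⊤ : Submodule A M) ≤ S ⊔ K 0 := by
    haveI := FormalLib.finite_HH (A := A) (F 0) hF q
    let p : M →ₗ[A] Coh.HH (T.X 0) (F 0) q :=
      { toFun := fun x => (show Coh.HH (T.X 0) (F 0) q from Sheaf.H.map (R.β.hom.app (F 0)) q (π 0 x))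
        map_add' := fun x y => by rw [map_add, map_add]
        map_smul' := fun b x => by
          show _ = b • (show Coh.HH (T.X 0) (F 0) q from Sheaf.H.map (R.β.hom.app (F 0)) q (π 0 x))
          rw [hsmul 0 b x]
          refine (hm_comp q _ _ _).trans (Eq.trans ?_ (FormalLib.hMapA_apply (A := A) (Formal.smulMod A (F 0) b) q
            (Sheaf.H.map (R.β.hom.app (F 0)) q (π 0 x))).symm)
          refine Eq.trans ?_ (hm_comp q _ _ _).symm
          exact congrArg (fun e => Sheaf.H.map e q (π 0 x)) (R.β.hom.naturality (Formal.smulMod A (F 0) b)) }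
    obtain ⟨n, v, hv⟩ := Submodule.fg_iff_exists_fin_generating_family.1 (IsNoetherian.noetherian (LinearMap.range p))
    choose μ hμ using fun l => (LinearMap.mem_range.1 (hv ▸ Submodule.subset_span ⟨l, rfl⟩ : v l ∈ LinearMap.range p))
    refine ⟨Submodule.span A (Set.range μ), Submodule.fg_span (Set.finite_range μ), fun x _ => ?_⟩
    obtain ⟨c, hc⟩ := (Submodule.mem_span_range_iff_exists_fun A).1
      (show p x ∈ Submodule.span A (Set.range v) from hv.ge (LinearMap.mem_range_self p x))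
    refine Submodule.mem_sup.2 ⟨∑ l, c l • μ l, sum_mem fun l _ => Submodule.smul_mem _ _ (Submodule.subset_span ⟨l, rfl⟩),
      x - ∑ l, c l • μ l, (mem _ _).2 ?_, add_sub_cancel _ _⟩
    have h1 : p (x - ∑ l, c l • μ l) = 0 := by rw [map_sub, map_sum, ← hc, sub_eq_zero]; simp [map_smul, hμ]
    have h2 := congrArg (Sheaf.H.map (R.β.inv.app (F 0)) q) h1
    rw [map_zero] at h2
    refine Eq.trans ?_ h2
    refine Eq.trans ?_ (hm_comp q _ _ _).symm
    rw [Iso.hom_inv_id_app]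
    exact (Sheaf.H.map_id_apply _).symm
  have hfin : ∀ k, ∃ S : Submodule A M, S.FG ∧ S ≤ K k ∧ K k ≤ S ⊔ K (k + 1) := fun k => by
    obtain ⟨n, v, hv⟩ := Submodule.fg_iff_exists_fin_generating_family.1 (IsNoetherian.noetherian (P k))
    choose μ hμ using fun l => (show v l ∈ P k from hv ▸ Submodule.subset_span ⟨l, rfl⟩)
    have hμK : ∀ l, μ l ∈ K k := fun l => (mem _ _).2 (by rw [← hπ, hμ, dd_gE])
    refine ⟨Submodule.span A (Set.range μ), Submodule.fg_span (Set.finite_range μ),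
      Submodule.span_le.2 (Set.range_subset_iff.2 hμK), fun x hx => ?_⟩
    obtain ⟨y, hy⟩ := exists_gE R F ψ q a ha hF hspan k (π (k + 1) x) ((hπ k x).trans ((mem _ _).1 hx))
    obtain ⟨c, hc⟩ := (Submodule.mem_span_range_iff_exists_fun A).1
      (show y ∈ Submodule.span A (Set.range v) from hv.ge (show y ∈ P k from ⟨x, hy.symm⟩))
    refine Submodule.mem_sup.2 ⟨∑ l, c l • μ l, sum_mem fun l _ => Submodule.smul_mem _ _ (Submodule.subset_span ⟨l, rfl⟩),
      x - ∑ l, c l • μ l, (mem _ _).2 ?_, add_sub_cancel _ _⟩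
    rw [map_sub, sub_eq_zero, ← hy, ← hc, map_sum, map_sum]
    exact Finset.sum_congr rfl fun l _ => by rw [gE_smul, ← hμ, hsmul]
  refine finite_and_bound hJ hK (fun x hx => hinj x hx) h0 hfin ⟨d, fun m hm x hx => ?_⟩
  obtain ⟨y, hy⟩ := exists_gE R F ψ q a ha hF hspan (m + 1) (π (m + 2) x) ((hπ (m + 1) x).trans ((mem _ _).1 hx))
  obtain ⟨w, hw, hwy⟩ := (Submodule.mem_iSup_iff_exists_finsupp _ _).1 (hd m hm (⟨x, hy.symm⟩ : y ∈ P (m + 1)))
  choose u hu hu' using fun i => Submodule.mem_map.1 (hw i)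
  choose μ hμ using fun i => (show u i ∈ P m from hu i)
  have hμK : ∀ i, μ i ∈ K m := fun i => (mem _ _).2 (by rw [← hπ, hμ, dd_gE])
  refine Submodule.mem_sup.2 ⟨∑ i, a i • μ i, sum_mem fun i _ => Submodule.smul_mem_smul (ha i) (hμK i),
    x - ∑ i, a i • μ i, (mem _ _).2 ?_, add_sub_cancel _ _⟩
  rw [map_sub, sub_eq_zero, ← hy, ← hwy, Finsupp.sum_fintype _ _ (fun _ => rfl), map_sum, map_sum]
  refine Finset.sum_congr rfl fun i _ => ?_
  rw [smul_pi R F ψ q a ha π hπ hsmul i (m + 1), hμ, ← gE_tH]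
  exact congrArg _ (hu' i).symm

end FRpushLib

end
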