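import Groth.Agent.FRpushLib.LevelAc
import Groth.Agent.FCohLib.CohIso

/-!
# Higher direct images from a level, as modules
-/

set_option autoImplicit false
set_option linter.style.haveILetI false
set_option maxHeartbeats 800000
set_option synthInstance.maxHeartbeats 80000

universe u

attribute [local instance] HasDerivedCategory.standard

open CategoryTheory CategoryTheory.Limits AlgebraicGeometry TopologicalSpace Opposite FSch

noncomputable section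

namespace FRpushLib

variable {𝔛 𝔜 : Sys.{u}} (φ : 𝔛 ⟶ 𝔜) (h𝔛 : 𝔛.IsFormal) (h𝔜 : 𝔜.IsFormal) (k : ℕ)

/-- The two composite maps on opens agree. -/
def opensSq : Opens.map (𝔜.gInv h𝔜 k) ⋙ Opens.map ((φ : Hom 𝔛 𝔜).app k).base ≅
    Opens.map ((φ : Hom 𝔛 𝔜).app 0).base ⋙ Opens.map (𝔛.gInv h𝔛 k) :=
  NatIso.ofComponents (fun U => eqToIso (Hom.lvU_preimage φ h𝔛 h𝔜 k U)) fun _ => Subsingleton.elim _ _

theorem sharp_level_app (U : (𝔜.X 0).Opens) (x : (𝔜.Osh h𝔜).obj.obj (op U)) :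
    (𝔛.OshProj h𝔛 k).hom.app (op (((φ : Hom 𝔛 𝔜).app 0) ⁻¹ᵁ U)) ((Hom.sharp φ h𝔛 h𝔜).hom.app (op U) x) =
      ((φ : Hom 𝔛 𝔜).app k).appLE (𝔜.lvU h𝔜 k U) (𝔛.lvU h𝔛 k ((φ : Hom 𝔛 𝔜).app 0 ⁻¹ᵁ U))
        (Hom.lvU_preimage φ h𝔛 h𝔜 k U).ge ((𝔜.OshProj h𝔜 k).hom.app (op U) x) :=
  congr($(congrArg (fun a : 𝔜.Osh h𝔜 ⟶ (TopCat.Sheaf.pushforward CommRingCat.{u} ((φ : Hom 𝔛 𝔜).app 0).base).obj
    (𝔛.levelObj h𝔛 k) => a.hom.app (op U)) (Hom.sharp_proj φ h𝔛 h𝔜 k)) x)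

/-- Direct image from a level commutes with the morphism. -/
def pushLevIso : Scheme.Modules.pushforward ((φ : Hom 𝔛 𝔜).app k) ⋙ (levelMor 𝔜 h𝔜 k).push ≅
    (levelMor 𝔛 h𝔛 k).push ⋙ pushF φ h𝔛 h𝔜 :=
  haveI := Functor.isContinuous_comp (Opens.map (𝔜.gInv h𝔜 k)) (Opens.map ((φ : Hom 𝔛 𝔜).app k).base)
    (Opens.grothendieckTopology (𝔜.X 0).carrier) (Opens.grothendieckTopology (𝔜.X k).carrier)
    (Opens.grothendieckTopology (𝔛.X k).carrier)
  haveI := Functor.isContinuous_comp (Opens.map ((φ : Hom 𝔛 𝔜).app 0).base) (Opens.map (𝔛.gInv h𝔛 k))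
    (Opens.grothendieckTopology (𝔜.X 0).carrier) (Opens.grothendieckTopology (𝔛.X 0).carrier)
    (Opens.grothendieckTopology (𝔛.X k).carrier)
  SheafOfModules.pushforwardComp (levelMor 𝔜 h𝔜 k).sharpR ((φ : Hom 𝔛 𝔜).app k).toRingCatSheafHom ≪≫
    SheafOfModules.pushforwardCongr₂ _ (opensSq φ h𝔛 h𝔜 k).symm (by
      apply Sheaf.hom_ext
      ext U x
      obtain ⟨U⟩ := U
      refine Eq.trans ?_ (sharp_level_app φ h𝔛 h𝔜 k U x).symm
      rw [Scheme.Hom.appLE]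
      show (𝔛.X k).presheaf.map _ (((φ : Hom 𝔛 𝔜).app k).app _ _) = _
      exact congr($(congrArg (𝔛.X k).presheaf.map (Subsingleton.elim _ _)) _)) ≪≫
    (SheafOfModules.pushforwardComp (homMor φ h𝔛 h𝔜).sharpR (levelMor 𝔛 h𝔛 k).sharpR).symm

/-- Direct image from a level, on the modules of the scheme. -/
abbrev lPush : (𝔛.X k).Modules ⥤ ModF 𝔛 h𝔛 := (levelMor 𝔛 h𝔛 k).push

instance additive_levelPush : (lPush h𝔛 k).Additive :=
  ⟨fun {M N a b} => (levelMor 𝔛 h𝔛 k).push.map_add (f := a) (g := b)⟩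


theorem shortExact_levelPush {S : ShortComplex (𝔛.X k).Modules} (hS : S.ShortExact) :
    (S.map (lPush h𝔛 k)).ShortExact := by
  have h0 : (S.map (FModLib.phi h𝔛 k)).ShortExact := FModLib.phi_shortExact h𝔛 k S hS
  exact
    { exact := (ShortComplex.exact_map_iff_of_faithful _ (toAbS (𝔛.Osh h𝔛))).mp h0.exact
      mono_f := (toAbS (𝔛.Osh h𝔛)).mono_of_mono_map h0.mono_f
      epi_g := (toAbS (𝔛.Osh h𝔛)).epi_of_epi_map h0.epi_g }

theorem preservesHomology_levelPush : (lPush h𝔛 k).PreservesHomology :=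
  ((Functor.exact_tfae (lPush h𝔛 k)).out 0 2 rfl rfl).mp fun _ hS => shortExact_levelPush h𝔛 k hS

variable [HasInjectiveResolutions (ModF 𝔛 h𝔛)]

theorem isSAcyclic_levelPush_injective (I : (𝔛.X k).Modules) [Injective I] :
    SpSeqLib.IsSAcyclic (pushF φ h𝔛 h𝔜) ((lPush h𝔛 k).obj I) := by
  rw [SpSeqLib.isSAcyclic_iff]
  rintro (_ | q) hq
  · exact absurd hq (lt_irrefl 0)
  let R := ((pushF φ h𝔛 h𝔜).rightDerived (q + 1)).obj ((lPush h𝔛 k).obj I)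
  rw [IsZero.iff_id_eq_zero]
  refine SheafOfModules.hom_ext (PresheafOfModules.hom_ext fun V => ModuleCat.hom_ext (LinearMap.ext fun σ => ?_))
  refine FCohLib.eq_zero_of_points R (V := V.unop) σ fun p hp => ?_
  have hB : Opens.IsBasis (Set.univ : Set (Opens (𝔜.X 0))) :=
    Opens.isBasis_iff_nbhd.mpr fun {U x} hx => ⟨U, trivial, hx, le_rfl⟩
  obtain ⟨W, -, hWV, x, hpW, hx⟩ := exists_local_theta ((φ : Hom 𝔛 𝔜).app 0).base (Hom.sharp φ h𝔛 h𝔜) (q + 1)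
    ((lPush h𝔛 k).obj I) hB (V := V.unop) σ hp
  refine ⟨W, hWV, hpW, hx.symm.trans ?_⟩
  have hs := @subsingleton_HU_push_injective _ _ _ _ (𝔛.gInv h𝔛 k) (𝔛.OshProj h𝔛 k) I ‹Injective I› q
    (pre ((φ : Hom 𝔛 𝔜).app 0).base W)
  exact (congrArg _ (@Subsingleton.elim _ hs x 0)).trans (map_zero _)

/-- **The higher direct image from a level, as a module.** -/
theorem nonempty_rpush_level_iso (G : (𝔛.X k).Modules) (j : ℕ) :
    Nonempty ((RpushF φ h𝔛 h𝔜 j).obj ((lPush h𝔛 k).obj G) ≅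
      (lPush h𝔜 k).obj ((Coh.Rpush ((φ : Hom 𝔛 𝔜).app k) j).obj G)) := by
  let fk := (φ : Hom 𝔛 𝔜).app k
  let P := (lPush h𝔛 k)
  let I := injectiveResolution G
  haveI := preservesHomology_levelPush h𝔛 k
  haveI := preservesHomology_levelPush h𝔜 k
  let i : (CochainComplex.single₀ (ModF 𝔛 h𝔛)).obj (P.obj G) ⟶ (P.mapHomologicalComplex _).obj I.cocomplex :=
    ((HomologicalComplex.singleMapHomologicalComplex P (ComplexShape.up ℕ) 0).app G).inv ≫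
      (P.mapHomologicalComplex _).map I.ι
  haveI : QuasiIso i := by
    dsimp only [i]
    infer_instance
  obtain ⟨e⟩ := RpushLib.nonempty_rightDerived_iso_of_acyclic (pushF φ h𝔛 h𝔜) ((P.mapHomologicalComplex _).obj I.cocomplex)
    i (fun n => isSAcyclic_levelPush_injective φ h𝔛 h𝔜 k (I.cocomplex.X n)) j
  let b : ((pushF φ h𝔛 h𝔜).mapHomologicalComplex _).obj ((P.mapHomologicalComplex _).obj I.cocomplex) ≅
      ((lPush h𝔜 k).mapHomologicalComplex _).obj (RpushLib.pushCx fk I.cocomplex) :=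
    HomologicalComplex.Hom.isoOfComponents (fun n => (pushLevIso φ h𝔛 h𝔜 k).symm.app (I.cocomplex.X n))
      (fun n n' _ => ((pushLevIso φ h𝔛 h𝔜 k).inv.naturality (I.cocomplex.d n n')).symm)
  exact ⟨e ≪≫ HomologicalComplex.homologyMapIso b j ≪≫
    ((RpushLib.pushCx fk I.cocomplex).sc j).mapHomologyIso (lPush h𝔜 k) ≪≫
    (lPush h𝔜 k).mapIso (RpushLib.rpushIso fk I j).symm⟩

end FRpushLib

end
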