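import Groth.Agent.QCohLib.AbPush
import Groth.Agent.CohLib.Objects
import Mathlib.Algebra.Homology.ShortComplex.Abelian

/-!
# Cohomology by resolutions acyclic on every open, naturally
-/

set_option autoImplicit false
set_option linter.style.haveILetI false
set_option linter.unusedSectionVars false

universe u

open CategoryTheory CategoryTheory.Limits TopologicalSpace Opposite CategoryTheory.Abelian
open QCohLib (AbSh HU h0 h0_comp zsh)

noncomputable section

namespace FRpushLib

variable {X : TopCat.{u}}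

theorem app_injective {F G : AbSh X} (φ : F ⟶ G) [Mono φ] (U : Opens X) :
    Function.Injective (φ.hom.app (op U)) :=
  (AddCommGrpCat.mono_iff_injective _).mp (inferInstanceAs (Mono (((sheafToPresheaf _ _).map φ).app (op U))))

theorem exists_kernel_sec {F G : AbSh X} (φ : F ⟶ G) {U : Opens X} (s : F.obj.obj (op U))
    (hs : φ.hom.app (op U) s = 0) : ∃ t, (kernel.ι φ).hom.app (op U) t = s := by
  have h : QCohLib.zEquiv.symm s ≫ φ = 0 := by
    apply QCohLib.zEquiv.injective
    rw [QCohLib.zEquiv_comp, AddEquiv.apply_symm_apply, map_zero]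
    exact hs
  refine ⟨QCohLib.zEquiv (kernel.lift φ _ h), ?_⟩
  rw [← QCohLib.zEquiv_comp, kernel.lift_ι, AddEquiv.apply_symm_apply]

/-- A resolution by sheaves acyclic on every open. -/
structure Res (F : AbSh X) where
  K : CochainComplex (AbSh X) ℕ
  ι : F ⟶ K.X 0
  comp : ι ≫ K.d 0 1 = 0
  mono : Mono ι
  exact₀ : (ShortComplex.mk ι (K.d 0 1) comp).Exact
  exact : ∀ n : ℕ, (ShortComplex.mk (K.d n (n + 1)) (K.d (n + 1) (n + 2)) (K.d_comp_d _ _ _)).Exact
  ac : ∀ (n m : ℕ) (U : Opens X), Subsingleton (HU (K.X n) (m + 1) U)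

variable {F F' : AbSh X} (R : Res F) (R' : Res F')

/-- The cocycle sheaf. -/
abbrev Res.Z (k : ℕ) : AbSh X := kernel (R.K.d k (k + 1))

/-- The step sequence. -/
abbrev Res.cyc (k : ℕ) : ShortComplex (AbSh X) :=
  ShortComplex.mk (X₁ := R.Z k) (X₂ := R.K.X k) (X₃ := R.Z (k + 1)) (kernel.ι (R.K.d k (k + 1)))
    (kernel.lift (R.K.d (k + 1) (k + 2)) (R.K.d k (k + 1)) (R.K.d_comp_d _ _ _))
    (by rw [← cancel_mono (kernel.ι (R.K.d (k + 1) (k + 2)))]; simp)

theorem Res.cyc_shortExact (k : ℕ) : (R.cyc k).ShortExact where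
  mono_f := inferInstanceAs (Mono (kernel.ι _))
  epi_g := (ShortComplex.exact_iff_epi_kernel_lift _).mp (R.exact k)
  exact := ShortComplex.exact_of_f_is_kernel _ <|
    KernelFork.IsLimit.ofι' _ _ fun {A} g hg => ⟨kernel.lift _ g (by
      rw [← kernel.lift_ι (R.K.d (k + 1) (k + 2)) (R.K.d k (k + 1)) (R.K.d_comp_d _ _ _),
        ← Category.assoc, hg, zero_comp]), kernel.lift_ι _ _ _⟩

/-- The augmentation to the cocycles of degree zero. -/
abbrev Res.aug : F ⟶ R.Z 0 := kernel.lift _ R.ι R.comp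

instance Res.isIso_aug : IsIso R.aug := by
  haveI : Mono (ShortComplex.mk R.ι (R.K.d 0 1) R.comp).f := R.mono
  haveI : Mono R.aug := mono_of_mono_fac (kernel.lift_ι _ _ R.comp)
  haveI : Epi R.aug := (ShortComplex.exact_iff_epi_kernel_lift _).mp R.exact₀
  exact isIso_of_mono_of_epi _

variable (U : Opens X)

/-- The connecting map. -/
def Res.dlt (k m : ℕ) : HU (R.Z (k + 1)) m U →+ HU (R.Z k) (m + 1) U :=
  (R.cyc_shortExact k).extClass.postcomp (zsh U) rfl

theorem Res.dlt_surjective (k m : ℕ) : Function.Surjective (R.dlt U k m) := fun x => by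
  haveI : Subsingleton (HU (R.cyc k).X₂ (m + 1) U) := R.ac k m U
  obtain ⟨y, hy⟩ := QCohLib.exists_eq_comp_extClass (R.cyc_shortExact k) x
  exact ⟨y, hy⟩

theorem Res.dlt_bijective (k m : ℕ) : Function.Bijective (R.dlt U k (m + 1)) := by
  refine ⟨(injective_iff_map_eq_zero _).mpr fun x hx => ?_, R.dlt_surjective U k (m + 1)⟩
  haveI : Subsingleton (HU (R.cyc k).X₂ (m + 1) U) := R.ac k m U
  obtain ⟨y, rfl⟩ := Ext.covariant_sequence_exact₃ _ (R.cyc_shortExact k) x rfl hx
  rw [Subsingleton.elim y 0, Ext.zero_comp]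

/-- Descending along the step sequences. -/
def Res.down : ∀ (k m n : ℕ), m + k = n → (HU (R.Z k) m U →+ HU F n U)
  | 0, _, _, h => (Ext.mk₀ (inv R.aug)).postcomp (zsh U) h
  | k + 1, m, n, h => (Res.down k (m + 1) n (by omega)).comp (R.dlt U k m)

theorem Res.down_zero_bijective (m n : ℕ) (h : m + 0 = n) : Function.Bijective (R.down U 0 m n h) := by
  obtain rfl : m = n := h
  refine Function.bijective_iff_has_inverse.mpr
    ⟨fun y => y.comp (Ext.mk₀ R.aug) (add_zero m), fun x => ?_, fun y => ?_⟩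
  · change (x.comp (Ext.mk₀ _) (add_zero m)).comp (Ext.mk₀ _) (add_zero m) = x
    rw [Ext.comp_assoc_of_second_deg_zero, Ext.mk₀_comp_mk₀, IsIso.inv_hom_id, Ext.comp_mk₀_id]
  · change (y.comp (Ext.mk₀ _) (add_zero m)).comp (Ext.mk₀ _) (add_zero m) = y
    rw [Ext.comp_assoc_of_second_deg_zero, Ext.mk₀_comp_mk₀, IsIso.hom_inv_id, Ext.comp_mk₀_id]

theorem Res.down_bijective : ∀ (k m n : ℕ) (h : m + 1 + k = n),
    Function.Bijective (R.down U k (m + 1) n h)
  | 0, m, n, h => R.down_zero_bijective U (m + 1) n h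
  | k + 1, m, n, h => (Res.down_bijective k (m + 1) n (by omega)).comp (R.dlt_bijective U k m)

theorem Res.down_surjective : ∀ (n : ℕ), Function.Surjective (R.down U n 0 n (zero_add n))
  | 0 => (R.down_zero_bijective U 0 0 rfl).2
  | k + 1 => (R.down_bijective U k 0 (k + 1) (by omega)).2.comp (R.dlt_surjective U k 0)

/-- The class of a cocycle. -/
def Res.cls (n : ℕ) : (R.Z n).obj.obj (op U) →+ HU F n U :=
  (R.down U n 0 n (zero_add n)).comp (h0 (F := R.Z n) (U := U)).symm.toAddMonoidHom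

theorem Res.cls_surjective (n : ℕ) : Function.Surjective (R.cls U n) :=
  (R.down_surjective U n).comp (h0 (F := R.Z n) (U := U)).symm.surjective

theorem Res.cls_zero_injective : Function.Injective (R.cls U 0) :=
  (R.down_zero_bijective U 0 0 rfl).1.comp (h0 (F := R.Z 0) (U := U)).symm.injective

theorem Res.cls_succ_eq_zero_iff (k : ℕ) (z : (R.Z (k + 1)).obj.obj (op U)) :
    R.cls U (k + 1) z = 0 ↔
      ∃ t : (R.K.X k).obj.obj (op U), (R.K.d k (k + 1)).hom.app (op U) t =
        (kernel.ι (R.K.d (k + 1) (k + 2))).hom.app (op U) z := by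
  have e : R.cls U (k + 1) z = R.down U k 1 (k + 1) (by omega)
      (QCohLib.delta0 (R.cyc_shortExact k) U z) := rfl
  rw [e, map_eq_zero_iff _ (R.down_bijective U k 0 (k + 1) (by omega)).1]
  refine (QCohLib.delta0_eq_zero_iff (R.cyc_shortExact k) U _).trans ?_
  have hg : ∀ t, (kernel.ι (R.K.d (k + 1) (k + 2))).hom.app (op U) ((R.cyc k).g.hom.app (op U) t) =
      (R.K.d k (k + 1)).hom.app (op U) t := fun t =>
    congr($(congrArg (fun φ : R.K.X k ⟶ R.K.X (k + 1) => φ.hom.app (op U))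
      (kernel.lift_ι (R.K.d (k + 1) (k + 2)) (R.K.d k (k + 1)) (R.K.d_comp_d _ _ _))) t)
  exact ⟨fun ⟨t, ht⟩ => ⟨t, (hg t).symm.trans (congrArg _ ht)⟩,
    fun ⟨t, ht⟩ => ⟨t, app_injective (kernel.ι (R.K.d (k + 1) (k + 2))) U ((hg t).trans ht)⟩⟩

variable {R R'}

/-- A map of resolutions over a map. -/
structure Res.Hom (R : Res F) (R' : Res F') (f : F ⟶ F') where
  φ : R.K ⟶ R'.K
  w : R.ι ≫ φ.f 0 = f ≫ R'.ι

variable {f : F ⟶ F'} (a : Res.Hom R R' f)

/-- The induced map of cocycles. -/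
abbrev Res.Hom.zMap (k : ℕ) : R.Z k ⟶ R'.Z k :=
  kernel.map _ _ (a.φ.f k) (a.φ.f (k + 1)) (a.φ.comm k (k + 1)).symm

theorem Res.Hom.down_natural : ∀ (k m n : ℕ) (h : m + k = n) (x : HU (R.Z k) m U),
    (R.down U k m n h x).comp (Ext.mk₀ f) (add_zero n) =
      R'.down U k m n h (x.comp (Ext.mk₀ (a.zMap k)) (add_zero m))
  | 0, m, n, h, x => by
    obtain rfl : m = n := h
    change (x.comp (Ext.mk₀ _) (add_zero m)).comp (Ext.mk₀ _) (add_zero m) =
      (x.comp (Ext.mk₀ _) (add_zero m)).comp (Ext.mk₀ _) (add_zero m)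
    rw [Ext.comp_assoc_of_second_deg_zero, Ext.comp_assoc_of_second_deg_zero, Ext.mk₀_comp_mk₀, Ext.mk₀_comp_mk₀]
    refine congrArg (fun e => Ext.comp x (Ext.mk₀ e) (add_zero m)) ?_
    rw [IsIso.inv_comp_eq, ← Category.assoc, IsIso.eq_comp_inv, ← cancel_mono (kernel.ι _)]
    simp [a.w]
  | k + 1, m, n, h, x => by
    let e : R.cyc k ⟶ R'.cyc k := ShortComplex.homMk (a.zMap k) (a.φ.f k) (a.zMap (k + 1))
      (by simp) (by rw [← cancel_mono (kernel.ι _)]; simp)
    have key : (R.dlt U k m x).comp (Ext.mk₀ (a.zMap k)) (add_zero (m + 1)) =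
        R'.dlt U k m (x.comp (Ext.mk₀ (a.zMap (k + 1))) (add_zero m)) := by
      change (x.comp (R.cyc_shortExact k).extClass rfl).comp (Ext.mk₀ e.τ₁) (add_zero (m + 1)) =
        (x.comp (Ext.mk₀ e.τ₃) (add_zero m)).comp (R'.cyc_shortExact k).extClass rfl
      refine (Ext.comp_assoc_of_third_deg_zero _ _ _ _).trans (Eq.trans ?_ (Ext.comp_assoc_of_second_deg_zero _ _ _ _).symm)
      exact congrArg (fun y => Ext.comp x y rfl)
        (ShortComplex.ShortExact.extClass_naturality (R.cyc_shortExact k) (R'.cyc_shortExact k) e)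
    change (R.down U k (m + 1) n _ (R.dlt U k m x)).comp _ _ = R'.down U k (m + 1) n _ (R'.dlt U k m _)
    rw [← key]
    exact Res.Hom.down_natural k (m + 1) n (by omega) (R.dlt U k m x)

/-- **Classes of cocycles are natural.** -/
theorem Res.Hom.cls_natural (n : ℕ) (z : (R.Z n).obj.obj (op U)) :
    (R.cls U n z).comp (Ext.mk₀ f) (add_zero n) = R'.cls U n ((a.zMap n).hom.app (op U) z) := by
  refine (a.down_natural U n 0 n (zero_add n) _).trans (congrArg (R'.down U n 0 n (zero_add n)) ?_)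
  apply (h0 (F := R'.Z n) (U := U)).injective
  rw [h0_comp]
  exact (congrArg _ ((h0 (F := R.Z n) (U := U)).apply_symm_apply z)).trans
    ((h0 (F := R'.Z n) (U := U)).apply_symm_apply _).symm

section Sections

variable (K : CochainComplex (AbSh X) ℕ)

/-- The sheaf of coboundaries. -/
abbrev bdry (j : ℕ) : AbSh X := kernel (K.homologyπ j)

/-- Coboundaries in cocycles. -/
abbrev bzSeq (j : ℕ) : ShortComplex (AbSh X) :=
  ShortComplex.mk (kernel.ι (K.homologyπ j)) (K.homologyπ j) (kernel.condition _)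

theorem bzSeq_shortExact (j : ℕ) : (bzSeq K j).ShortExact where
  mono_f := inferInstanceAs (Mono (kernel.ι _))
  epi_g := inferInstanceAs (Epi (K.homologyπ j))
  exact := ShortComplex.exact_of_f_is_kernel _ (kernelIsKernel _)

/-- Cocycles in cochains. -/
abbrev zkSeq (j : ℕ) : ShortComplex (AbSh X) :=
  ShortComplex.mk (X₁ := K.cycles j) (X₂ := K.X j) (X₃ := bdry K (j + 1)) (K.iCycles j)
    (kernel.lift _ (K.toCycles j (j + 1)) (K.toCycles_comp_homologyπ _ _))
    (by rw [← cancel_mono (kernel.ι _), Category.assoc, kernel.lift_ι, ← cancel_mono (K.iCycles (j + 1))]; simp)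

theorem zkSeq_shortExact (j : ℕ) : (zkSeq K j).ShortExact where
  mono_f := inferInstanceAs (Mono (K.iCycles j))
  epi_g := (ShortComplex.exact_iff_epi_kernel_lift
      (ShortComplex.mk (K.toCycles j (j + 1)) (K.homologyπ (j + 1)) (K.toCycles_comp_homologyπ _ _))).mp
    (ShortComplex.exact_of_g_is_cokernel _ (K.homologyIsCokernel j (j + 1) (by simp)))
  exact := ShortComplex.exact_of_f_is_kernel _ <| KernelFork.IsLimit.ofι' _ _ fun {A} g hg =>
    ⟨K.liftCycles g (j + 1) (by simp) (by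
      rw [← K.toCycles_i j (j + 1), ← Category.assoc]
      have : g ≫ K.toCycles j (j + 1) = 0 := by
        rw [← kernel.lift_ι (K.homologyπ (j + 1)) _ (K.toCycles_comp_homologyπ j (j + 1)), ← Category.assoc, hg,
          zero_comp]
      rw [this, zero_comp]), K.liftCycles_i _ _ _ _⟩

variable {K} {W : Opens X} (hK : ∀ j m, Subsingleton (HU (K.X j) (m + 1) W))

include hK in
/-- Cocycles and coboundaries are acyclic where the cochains and the homology are. -/
theorem subsingleton_bdry : ∀ (q : ℕ), (∀ j < q, ∀ m, Subsingleton (HU (K.homology j) (m + 1) W)) →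
    ∀ m, Subsingleton (HU (bdry K q) (m + 1) W) := by
  intro q
  induction q with
  | zero =>
    intro _ m
    haveI : IsIso (K.homologyπ 0) := K.isIso_homologyπ 0 0 (by simp) (K.shape _ _ (by simp))
    have hz : IsZero (bdry K 0) := isZero_kernel_of_mono _
    exact subsingleton_of_forall_eq 0 fun x => by
      rw [← Ext.comp_mk₀_id x, hz.eq_of_src (𝟙 (bdry K 0)) 0, Ext.mk₀_zero, Ext.comp_zero]
  | succ q ih =>
    intro h m
    have hB := ih (fun j hj => h j (Nat.lt_succ_of_lt hj))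
    have hZ : ∀ m, Subsingleton (HU (K.cycles q) (m + 1) W) := fun m => by
      haveI : Subsingleton (HU (bzSeq K q).X₁ (m + 1) W) := hB m
      haveI : Subsingleton (HU (bzSeq K q).X₃ (m + 1) W) := h q (Nat.lt_succ_self q) m
      refine subsingleton_of_forall_eq 0 fun x => ?_
      obtain ⟨y, hy⟩ := Ext.covariant_sequence_exact₂ _ (bzSeq_shortExact K q) x (Subsingleton.elim _ _)
      rw [← hy, Subsingleton.elim y 0, Ext.zero_comp]
    haveI : Subsingleton (HU (zkSeq K q).X₂ (m + 1) W) := hK q m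
    haveI : Subsingleton (HU (zkSeq K q).X₁ (m + 1 + 1) W) := hZ (m + 1)
    exact QCohLib.subsingleton_X₃ (zkSeq_shortExact K q)

include hK in
/-- **Sections of homology lift to cocycles.** -/
theorem exists_cycle {q : ℕ} (h : ∀ j < q, ∀ m, Subsingleton (HU (K.homology j) (m + 1) W))
    (s : (K.homology q).obj.obj (op W)) : ∃ z, (K.homologyπ q).hom.app (op W) z = s :=
  haveI : Subsingleton (HU (bzSeq K q).X₁ 1 W) := subsingleton_bdry hK q h 0
  QCohLib.exists_lift_of_subsingleton (bzSeq_shortExact K q) s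

include hK in
/-- **Cocycles vanishing in homology are coboundaries.** -/
theorem exists_cochain {k : ℕ} (h : ∀ j < k + 1, ∀ m, Subsingleton (HU (K.homology j) (m + 1) W))
    (z : (K.cycles (k + 1)).obj.obj (op W)) (hz : (K.homologyπ (k + 1)).hom.app (op W) z = 0) :
    ∃ t : (K.X k).obj.obj (op W), (K.d k (k + 1)).hom.app (op W) t = (K.iCycles (k + 1)).hom.app (op W) z := by
  obtain ⟨b, rfl⟩ := exists_kernel_sec _ z hz
  haveI : Subsingleton (HU (zkSeq K k).X₁ 1 W) := by
    haveI : Subsingleton (HU (bzSeq K k).X₁ 1 W) := subsingleton_bdry hK k (fun j hj => h j (Nat.lt_succ_of_lt hj)) 0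
    haveI : Subsingleton (HU (bzSeq K k).X₃ 1 W) := h k (Nat.lt_succ_self k) 0
    refine subsingleton_of_forall_eq 0 fun x => ?_
    obtain ⟨y, hy⟩ := Ext.covariant_sequence_exact₂ _ (bzSeq_shortExact K k) x (Subsingleton.elim _ _)
    rw [← hy, Subsingleton.elim y 0, Ext.zero_comp]
  obtain ⟨t, rfl⟩ := QCohLib.exists_lift_of_subsingleton (zkSeq_shortExact K k) b
  refine ⟨t, ?_⟩
  have e : (zkSeq K k).g ≫ kernel.ι (K.homologyπ (k + 1)) ≫ K.iCycles (k + 1) = K.d k (k + 1) := by simp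
  exact congr($(congrArg (fun φ : K.X k ⟶ K.X (k + 1) => φ.hom.app (op W)) e.symm) t)

end Sections

end FRpushLib
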