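import Groth.Agent.S13342
import Groth.Agent.FModLib.AffLevels
import Groth.Prelude.Def_FSch4

/-!
# A proper morphism over an affine open is proper over a formal spectrum
-/

set_option autoImplicit false
set_option linter.style.haveILetI false

universe u

open CategoryTheory CategoryTheory.Limits AlgebraicGeometry TopologicalSpace Opposite FSch

noncomputable section

namespace FRpushLib

variable {𝔜 : Sys.{u}} (h : 𝔜.IsFormal) (W : (𝔜.X 0).Opens) (hW : IsAffineOpen W)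
  (J : Ideal (FModLib.secSys h W hW).lim)
  (hsurj : ∀ n, Function.Surjective ((FModLib.secSys h W hW).proj n))
  (hJ : ∀ n, RingHom.ker ((FModLib.secSys h W hW).proj n) = J ^ (n + 1))

/-- The ring of a level is the quotient of the limit. -/
def quotEquivLvl (n : ℕ) : ((FModLib.secSys h W hW).lim ⧸ J ^ (n + 1)) ≃+* Γ(𝔜.X n, 𝔜.lvU h n W) :=
  (Ideal.quotEquivOfEq (hJ n).symm).trans (RingHom.quotientKerEquivOfSurjective (hsurj n))

theorem quotEquivLvl_mk (n : ℕ) (a : (FModLib.secSys h W hW).lim) :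
    quotEquivLvl h W hW J hsurj hJ n (Ideal.Quotient.mk _ a) = (FModLib.secSys h W hW).proj n a := rfl

/-- The components of the comparison with the formal spectrum. -/
def gW (n : ℕ) : (𝔜.lvU h n W : Scheme.{u}) ⟶ Spec (CommRingCat.of ((FModLib.secSys h W hW).lim ⧸ J ^ (n + 1))) :=
  (FModLib.isAffineOpen_lvU h hW n).isoSpec.hom ≫
    Spec.map (CommRingCat.ofHom (quotEquivLvl h W hW J hsurj hJ n).toRingHom)

instance isIso_gW (n : ℕ) : IsIso (gW h W hW J hsurj hJ n) := by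
  have : IsIso (CommRingCat.ofHom (quotEquivLvl h W hW J hsurj hJ n).toRingHom) :=
    ((quotEquivLvl h W hW J hsurj hJ n).toCommRingCatIso).isIso_hom
  unfold gW
  infer_instance

theorem gW_comm (n : ℕ) :
    (𝔜.restrictOpen h W).ι n ≫ gW h W hW J hsurj hJ (n + 1) =
      gW h W hW J hsurj hJ n ≫ CohB1.specQuotTrans J n := by
  show (𝔜.ι n).resLE (𝔜.lvU h (n + 1) W) (𝔜.lvU h n W) (𝔜.lvU_le h n W) ≫ gW h W hW J hsurj hJ (n + 1) = _
  have hU := FModLib.isAffineOpen_lvU h hW n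
  have hU' := FModLib.isAffineOpen_lvU h hW (n + 1)
  have e1 : (𝔜.ι n).resLE (𝔜.lvU h (n + 1) W) (𝔜.lvU h n W) (𝔜.lvU_le h n W) ≫ hU'.isoSpec.hom =
      hU.isoSpec.hom ≫ Spec.map ((𝔜.ι n).appLE (𝔜.lvU h (n + 1) W) (𝔜.lvU h n W) (𝔜.lvU_le h n W)) := by
    refine (cancel_mono hU'.fromSpec).1 ?_
    rw [Category.assoc, Category.assoc, hU'.isoSpec_hom_fromSpec,
      IsAffineOpen.SpecMap_appLE_fromSpec (𝔜.ι n) hU' hU, hU.isoSpec_hom_fromSpec_assoc]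
    exact Scheme.Hom.resLE_comp_ι _ _
  have e2 : Spec.map ((𝔜.ι n).appLE (𝔜.lvU h (n + 1) W) (𝔜.lvU h n W) (𝔜.lvU_le h n W)) ≫
      Spec.map (CommRingCat.ofHom (quotEquivLvl h W hW J hsurj hJ (n + 1)).toRingHom) =
      Spec.map (CommRingCat.ofHom (quotEquivLvl h W hW J hsurj hJ n).toRingHom) ≫ CohB1.specQuotTrans J n := by
    rw [CohB1.specQuotTrans, ← Spec.map_comp, ← Spec.map_comp]
    refine congrArg Spec.map (CommRingCat.hom_ext (Ideal.Quotient.ringHom_ext (RingHom.ext fun a => ?_)))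
    exact a.2 n
  unfold gW
  rw [← Category.assoc, e1, Category.assoc, e2, Category.assoc]

/-- The comparison with the formal spectrum. -/
def gHom : 𝔜.restrictOpen h W ⟶ spf (FModLib.secSys h W hW).lim J :=
  (⟨gW h W hW J hsurj hJ, fun n => (gW_comm h W hW J hsurj hJ n).symm⟩ : Hom (𝔜.restrictOpen h W) (spf (FModLib.secSys h W hW).lim J))

theorem gHom_app (n : ℕ) : (gHom h W hW J hsurj hJ : Hom _ _).app n = gW h W hW J hsurj hJ n := rfl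

section Proper

variable {𝔛 : Sys.{u}} (φ : 𝔛 ⟶ 𝔜) (h𝔛 : 𝔛.IsFormal)

/-- The morphism over the affine open, to the formal spectrum. -/
def overAff : 𝔛.restrictOpen h𝔛 ((φ : Hom 𝔛 𝔜).app 0 ⁻¹ᵁ W) ⟶ spf (FModLib.secSys h W hW).lim J :=
  Hom.restrictOpen φ h𝔛 h W ≫ gHom h W hW J hsurj hJ

theorem overAff_app (n : ℕ) : (overAff h W hW J hsurj hJ φ h𝔛 : Hom _ _).app n =
    (Hom.restrictOpen φ h𝔛 h W : Hom _ _).app n ≫ gW h W hW J hsurj hJ n := rfl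

theorem isPullback_restrictOpen (n : ℕ) : IsPullback ((Hom.restrictOpen φ h𝔛 h W : Hom _ _).app n)
    (𝔛.lvU h𝔛 n ((φ : Hom 𝔛 𝔜).app 0 ⁻¹ᵁ W)).ι (𝔜.lvU h n W).ι ((φ : Hom 𝔛 𝔜).app n) :=
  Groth.Agent.S13342.isPullback_resLE _ _ _ _ (Hom.lvU_preimage φ h𝔛 h n W).symm

theorem isAdicHom_restrictOpen (hφ : IsAdicHom φ) : IsAdicHom (Hom.restrictOpen φ h𝔛 h W) := by
  intro n
  have hT : IsPullback ((𝔛.restrictOpen h𝔛 ((φ : Hom 𝔛 𝔜).app 0 ⁻¹ᵁ W)).ι n)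
      (𝔛.lvU h𝔛 n ((φ : Hom 𝔛 𝔜).app 0 ⁻¹ᵁ W)).ι (𝔛.lvU h𝔛 (n + 1) ((φ : Hom 𝔛 𝔜).app 0 ⁻¹ᵁ W)).ι (𝔛.ι n) :=
    Groth.Agent.S13342.isPullback_resLE _ _ _ _ (𝔛.lvU_succ h𝔛 n _).symm
  have hB : IsPullback ((𝔜.restrictOpen h W).ι n) (𝔜.lvU h n W).ι (𝔜.lvU h (n + 1) W).ι (𝔜.ι n) :=
    Groth.Agent.S13342.isPullback_resLE _ _ _ _ (𝔜.lvU_succ h n W).symm
  have key := hT.paste_vert (hφ n)
  have e : ∀ m, (Hom.restrictOpen φ h𝔛 h W : Hom _ _).app m ≫ (𝔜.lvU h m W).ι =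
      (𝔛.lvU h𝔛 m ((φ : Hom 𝔛 𝔜).app 0 ⁻¹ᵁ W)).ι ≫ (φ : Hom 𝔛 𝔜).app m := fun m => (isPullback_restrictOpen h W φ h𝔛 m).w
  have key' : IsPullback ((𝔛.restrictOpen h𝔛 ((φ : Hom 𝔛 𝔜).app 0 ⁻¹ᵁ W)).ι n)
      ((Hom.restrictOpen φ h𝔛 h W : Hom _ _).app n ≫ (𝔜.lvU h n W).ι)
      ((Hom.restrictOpen φ h𝔛 h W : Hom _ _).app (n + 1) ≫ (𝔜.lvU h (n + 1) W).ι) (𝔜.ι n) := by
    convert key using 1 <;> exact e _
  exact key'.of_bot ((Hom.restrictOpen φ h𝔛 h W : Hom _ _).comm n).symm hB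

theorem isProperHom_overAff (hφ : IsProperHom φ) : IsProperHom (overAff h W hW J hsurj hJ φ h𝔛) := by
  refine ⟨fun n => ?_, ?_⟩
  · have : IsIso (C := Scheme.{u}) (X := (𝔜.restrictOpen h W).X n) (gW h W hW J hsurj hJ n) := isIso_gW h W hW J hsurj hJ n
    have : IsIso (C := Scheme.{u}) (X := (𝔜.restrictOpen h W).X (n + 1)) (gW h W hW J hsurj hJ (n + 1)) :=
      isIso_gW h W hW J hsurj hJ (n + 1)
    have hg : IsPullback ((𝔜.restrictOpen h W).ι n) (gW h W hW J hsurj hJ n) (gW h W hW J hsurj hJ (n + 1))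
        (CohB1.specQuotTrans J n) := IsPullback.of_vert_isIso ⟨gW_comm h W hW J hsurj hJ n⟩
    exact (isAdicHom_restrictOpen h W φ h𝔛 hφ.1 n).paste_vert hg
  · have := hφ.2
    have : IsProper ((Hom.restrictOpen φ h𝔛 h W : Hom _ _).app 0) :=
      MorphismProperty.of_isPullback (P := @IsProper) (isPullback_restrictOpen h W φ h𝔛 0).flip inferInstance
    have hi : IsIso (C := Scheme.{u}) (X := (𝔜.restrictOpen h W).X 0) (gW h W hW J hsurj hJ 0) :=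
      isIso_gW h W hW J hsurj hJ 0
    rw [overAff_app]
    exact (@MorphismProperty.cancel_right_of_respectsIso _ _ @IsProper inferInstance _ _ _ _ _ hi).2 this

end Proper

/-- **Over an affine open, a proper morphism is proper over a formal spectrum of a Noetherian ring.** -/
theorem exists_proper_spf {𝔛 : Sys.{u}} (φ : 𝔛 ⟶ 𝔜) (h𝔛 : 𝔛.IsFormal) (h𝔜 : 𝔜.IsLocNoethFormal)
    (hφ : IsProperHom φ) {W : (𝔜.X 0).Opens} (hW : IsAffineOpen W) :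
    ∃ (A : Type u) (_ : CommRing A) (J : Ideal A)
      (f' : 𝔛.restrictOpen h𝔛 ((φ : Hom 𝔛 𝔜).app 0 ⁻¹ᵁ W) ⟶ spf A J), IsNoetherianRing A ∧ IsProperHom f' := by
  obtain ⟨J, hN, hC, hJ⟩ := FModLib.exists_adic_lim h𝔜.1 W hW h𝔜
  have hsurj : ∀ n, Function.Surjective ((FModLib.secSys h𝔜.1 W hW).proj n) := fun n =>
    (FModLib.secSys h𝔜.1 W hW).proj_surjective n
  exact ⟨_, inferInstance, J, overAff h𝔜.1 W hW J hsurj hJ φ h𝔛, hN,
    isProperHom_overAff h𝔜.1 W hW J hsurj hJ φ h𝔛 hφ⟩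

end FRpushLib

end
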